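import Mathlib

set_option autoImplicit false

/-!
Coset bounds for groups given by Coxeter relations of type A and by the relations of Carmichael.
-/

namespace Cfsg.Agent.H66

variable {P : Type*} [Group P]

/-- Index bound from a set of cosets stable under a generating set. -/
theorem card_le_of_stable {k b : ℕ} (K : Subgroup P) [Finite K] (hK : Nat.card K ≤ b) (T : Set P)
    (hgen : Subgroup.closure T = ⊤) (S : Finset (P ⧸ K)) (hS : S.card ≤ k)
    (h1 : QuotientGroup.mk 1 ∈ S) (hstep : ∀ g ∈ T, ∀ c ∈ S, g • c ∈ S) :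
    Finite P ∧ Nat.card P ≤ k * b := by
  classical
  have hall : ∀ p : P, ∀ c ∈ S, p • c ∈ S := by
    intro p
    have hp : p ∈ Subgroup.closure T := hgen ▸ Subgroup.mem_top p
    induction hp using Subgroup.closure_induction with
    | mem g hg => exact hstep g hg
    | one => simp
    | mul x y _ _ hx hy => intro c hc; rw [mul_smul]; exact hx _ (hy _ hc)
    | inv x _ hx =>
      intro c hc
      have him : S.image (fun c => x • c) = S :=
        Finset.eq_of_subset_of_card_le (Finset.image_subset_iff.mpr hx)
          (Finset.card_image_of_injective _ (MulAction.injective x)).ge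
      rw [← him, Finset.mem_image] at hc
      obtain ⟨d, hd, rfl⟩ := hc
      rwa [inv_smul_smul]
  have huniv : ∀ c : P ⧸ K, c ∈ S := by
    intro c
    induction c using QuotientGroup.induction_on with
    | H p =>
      have := hall p _ h1
      rwa [MulAction.Quotient.smul_mk, smul_eq_mul, mul_one] at this
  let hfin : Fintype (P ⧸ K) := ⟨S, huniv⟩
  have hidx : K.index ≤ k := by
    rw [Subgroup.index_eq_card, Nat.card_eq_fintype_card]
    exact hS
  have hpos : 0 < K.index := by rw [Subgroup.index_eq_card]; exact Nat.card_pos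
  have hKpos : 0 < Nat.card K := Nat.card_pos
  have hmul := K.card_mul_index
  refine ⟨Nat.finite_of_card_ne_zero (by rw [← hmul]; positivity), ?_⟩
  rw [← hmul, mul_comm]
  exact Nat.mul_le_mul hidx hK

/-- The descending chain of cosets: `chain X c m (m+1) = c`, `chain X c m j = X j • chain X c m (j+1)`. -/
def chainUp {α : Type*} [MulAction P α] (X : ℕ → P) (c : α) (m : ℕ) : ℕ → α
  | 0 => c
  | r + 1 => X (m - r) • chainUp X c m r

/-- Point number `j` of the chain. -/
def chain {α : Type*} [MulAction P α] (X : ℕ → P) (c : α) (m j : ℕ) : α := chainUp X c m (m + 1 - j)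

/-- The relations shared by the two presentations, for generators `X 0, …, X m`. -/
structure ChainRel {α : Type*} [MulAction P α] (lo m : ℕ) (X : ℕ → P) (c : α) : Prop where
  inv : ∀ i, lo ≤ i → i ≤ m → X i * X i = 1
  lo_le : lo ≤ 1
  far : ∀ i j, i + 1 < j → j ≤ m → (X i * X j) ^ 2 = 1
  braid : ∀ i, lo ≤ i → i + 1 ≤ m → (X i * X (i + 1)) ^ 3 = 1
  fix : ∀ i, i < m → X i • c = c

namespace ChainRel

variable {α : Type*} [MulAction P α] {lo m : ℕ} {X : ℕ → P} {c : α} (h : ChainRel lo m X c)

omit h in
theorem chain_top : chain X c m (m + 1) = c := by simp [chain, chainUp]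

omit h in
theorem chain_succ {j : ℕ} (hj : j ≤ m) : chain X c m j = X j • chain X c m (j + 1) := by
  rw [chain, chain, show m + 1 - j = (m - j) + 1 by omega, show m + 1 - (j + 1) = m - j by omega,
    chainUp, show m - (m - j) = j by omega]

include h in
theorem smul_inv_self {i : ℕ} (hlo : lo ≤ i) (hi : i ≤ m) (d : α) : X i • X i • d = d := by
  rw [← mul_smul, h.inv i hlo hi, one_smul]

include h in
theorem far_smul {i j : ℕ} (hij : i + 1 < j) (hj : j ≤ m) (d : α) : X i • X j • d = X j • (X i)⁻¹ • d := by
  have h2 := h.far i j hij hj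
  have hj2 := h.inv j (by have := h.lo_le; omega) hj
  have e : X i * X j = X j * (X i)⁻¹ := by
    rw [pow_two] at h2
    rw [eq_inv_of_mul_eq_one_left h2, mul_inv_rev, inv_eq_of_mul_eq_one_right hj2]
  rw [← mul_smul, e, mul_smul]

include h in
theorem fix_high : ∀ r i j, j + r = m + 1 → i + 1 < j → X i • chain X c m j = chain X c m j := by
  intro r
  induction r with
  | zero =>
    intro i j hj hij
    obtain rfl : j = m + 1 := by omega
    rw [chain_top]
    exact h.fix i (by omega)
  | succ r ih =>
    intro i j hj hij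
    have h1 := ih i (j + 1) (by omega) (by omega)
    rw [chain_succ (by omega), h.far_smul hij (by omega), inv_smul_eq_iff.mpr h1.symm]

include h in
theorem fix_of_lt {i j : ℕ} (hij : i + 1 < j) (hj : j ≤ m + 1) : X i • chain X c m j = chain X c m j :=
  h.fix_high (m + 1 - j) i j (by omega) hij

include h in
theorem fix_low : ∀ r i j, j + r + 1 = i → lo ≤ j → i ≤ m → X i • chain X c m j = chain X c m j := by
  intro r
  induction r with
  | zero =>
    intro i j hij hlo hi
    obtain rfl : i = j + 1 := by omega
    have hb := h.braid j hlo hi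
    have ha := inv_eq_of_mul_eq_one_right (h.inv j hlo (by omega))
    have hb' := inv_eq_of_mul_eq_one_right (h.inv (j + 1) (by omega) hi)
    have e : X (j + 1) * (X j * X (j + 1)) = X j * X (j + 1) * X j := by
      rw [pow_succ, pow_two] at hb
      have h1 := eq_inv_of_mul_eq_one_left (a := X j * X (j + 1) * X j) (b := X (j + 1) * (X j * X (j + 1)))
        (by rw [← hb]; simp only [mul_assoc])
      rw [h1, mul_inv_rev, mul_inv_rev, ha, hb', mul_assoc]
    rw [mul_assoc (X j)] at e
    rw [chain_succ (by omega), chain_succ (j := j + 1) hi, ← mul_smul, ← mul_smul, mul_assoc, e, mul_smul, mul_smul,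
      h.fix_of_lt (j := j + 1 + 1) (by omega) (by omega)]
  | succ r ih =>
    intro i j hij hlo hi
    have h1 := ih i (j + 1) (by omega) (by omega) hi
    have h2 := h.far j i (by omega) hi
    have e : X i * X j = X j * X i := by
      rw [pow_two] at h2
      have := eq_inv_of_mul_eq_one_left h2
      rw [mul_inv_rev, inv_eq_of_mul_eq_one_right (h.inv j hlo (by omega)),
        inv_eq_of_mul_eq_one_right (h.inv i (by omega) hi)] at this
      exact this.symm
    rw [chain_succ (by omega), ← mul_smul, e, mul_smul, h1]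

include h in
/-- Action of a generator on the chain, away from the bottom. -/
theorem smul_chain {i j : ℕ} (hi : i ≤ m) (hj : j ≤ m + 1) (hlo : lo ≤ j) (hii : lo ≤ i ∨ i + 1 ≤ j) :
    ∃ l, l ≤ m + 1 ∧ X i • chain X c m j = chain X c m l := by
  rcases Nat.lt_trichotomy j i with hlt | rfl | hgt
  · exact ⟨j, hj, h.fix_low (i - j - 1) i j (by omega) hlo hi⟩
  · refine ⟨j + 1, by omega, ?_⟩
    rw [chain_succ hi, h.smul_inv_self (by omega) hi]
  · rcases (show j = i + 1 ∨ i + 1 < j by omega) with rfl | hlt
    · exact ⟨i, by omega, (chain_succ hi).symm⟩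
    · exact ⟨j, hj, h.fix_of_lt hlt hj⟩

end ChainRel

/-- A group generated by involutions with the Coxeter relations of type A has order at most `(k+1)!`. -/
theorem card_coxeterA_le : ∀ (k : ℕ) {P : Type*} [Group P] (X : ℕ → P),
    (∀ i, i < k → X i * X i = 1) → (∀ i, i + 1 < k → (X i * X (i + 1)) ^ 3 = 1) →
    (∀ i j, i + 1 < j → j < k → (X i * X j) ^ 2 = 1) → Subgroup.closure (X '' Set.Iio k) = ⊤ →
    Finite P ∧ Nat.card P ≤ (k + 1).factorial := by
  intro k
  induction k with
  | zero =>
    intro P _ X _ _ _ hgen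
    rw [show X '' Set.Iio 0 = ∅ by simp, Subgroup.closure_empty] at hgen
    have : Subsingleton P := ⟨fun a b => by
      have ha : a ∈ (⊥ : Subgroup P) := hgen ▸ Subgroup.mem_top a
      have hb : b ∈ (⊥ : Subgroup P) := hgen ▸ Subgroup.mem_top b
      rw [Subgroup.mem_bot.mp ha, Subgroup.mem_bot.mp hb]⟩
    exact ⟨inferInstance, by simpa using Finite.card_le_one_iff_subsingleton.mpr this⟩
  | succ m ih =>
    intro P _ X h2 h3 hf hgen
    classical
    set K := Subgroup.closure (X '' Set.Iio m) with hK
    let Y : ℕ → K := fun i => if h : i < m then ⟨X i, Subgroup.subset_closure ⟨i, h, rfl⟩⟩ else 1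
    have hY : ∀ i, i < m → (Y i : P) = X i := fun i hi => by simp [Y, hi]
    obtain ⟨hKfin, hKle⟩ := ih (P := K) Y (fun i hi => Subtype.ext (by simp [hY i hi, h2 i (by omega)]))
      (fun i hi => Subtype.ext (by simp [hY i (by omega), hY (i + 1) hi, h3 i (by omega)]))
      (fun i j hij hj => Subtype.ext (by simp [hY i (by omega), hY j hj, hf i j hij (by omega)]))
      (by
        apply Subgroup.map_injective K.subtype_injective
        rw [MonoidHom.map_closure, ← MonoidHom.range_eq_map, Subgroup.range_subtype]
        refine (congrArg Subgroup.closure ?_).trans hK.symm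
        ext x
        constructor
        · rintro ⟨_, ⟨i, hi, rfl⟩, rfl⟩; exact ⟨i, hi, (hY i hi).symm⟩
        · rintro ⟨i, hi, rfl⟩; exact ⟨Y i, ⟨i, hi, rfl⟩, hY i hi⟩)
    let c : P ⧸ K := QuotientGroup.mk 1
    have h : ChainRel 0 m X c :=
      ⟨fun i _ hi => h2 i (by omega), by omega, fun i j hij hj => hf i j hij (by omega),
        fun i _ hi => h3 i (by omega), fun i hi => by
          simp only [c, MulAction.Quotient.smul_mk, smul_eq_mul, mul_one, QuotientGroup.eq]
          exact K.inv_mem (Subgroup.subset_closure ⟨i, hi, rfl⟩)⟩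
    rw [show (m + 1 + 1).factorial = (m + 2) * (m + 1).factorial from Nat.factorial_succ (m + 1)]
    refine card_le_of_stable K hKle _ hgen ((Finset.range (m + 2)).image (chain X c m))
      (Finset.card_image_le.trans (by simp)) ?_ ?_
    · exact Finset.mem_image.mpr ⟨m + 1, by simp, ChainRel.chain_top⟩
    · rintro _ ⟨i, hi, rfl⟩ _ hd
      obtain ⟨j, hj, rfl⟩ := Finset.mem_image.mp hd
      rw [Finset.mem_range] at hj
      obtain ⟨l, hl, hl'⟩ := h.smul_chain (i := i) (j := j) (Nat.lt_succ_iff.mp hi) (by omega) (by omega) (Or.inl (by omega))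
      exact Finset.mem_image.mpr ⟨l, by simp; omega, hl'.symm⟩

/-- A group with Carmichael's relations on `k` generators has order at most `(k+2)!/2`. -/
theorem card_carmichael_le : ∀ (k : ℕ) {P : Type*} [Group P] (X : ℕ → P),
    (0 < k → X 0 ^ 3 = 1) → (∀ i, 1 ≤ i → i < k → X i * X i = 1) →
    (∀ i, i + 1 < k → (X i * X (i + 1)) ^ 3 = 1) →
    (∀ i j, i + 1 < j → j < k → (X i * X j) ^ 2 = 1) → Subgroup.closure (X '' Set.Iio k) = ⊤ →
    Finite P ∧ 2 * Nat.card P ≤ (k + 2).factorial := by
  intro k
  induction k with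
  | zero =>
    intro P _ X _ _ _ _ hgen
    rw [show X '' Set.Iio 0 = ∅ by simp, Subgroup.closure_empty] at hgen
    have : Subsingleton P := ⟨fun a b => by
      have ha : a ∈ (⊥ : Subgroup P) := hgen ▸ Subgroup.mem_top a
      have hb : b ∈ (⊥ : Subgroup P) := hgen ▸ Subgroup.mem_top b
      rw [Subgroup.mem_bot.mp ha, Subgroup.mem_bot.mp hb]⟩
    exact ⟨inferInstance, by simpa using Finite.card_le_one_iff_subsingleton.mpr this⟩
  | succ m ih =>
    intro P _ X h0 h2 h3 hf hgen
    classical
    set K := Subgroup.closure (X '' Set.Iio m) with hK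
    let Y : ℕ → K := fun i => if h : i < m then ⟨X i, Subgroup.subset_closure ⟨i, h, rfl⟩⟩ else 1
    have hY : ∀ i, i < m → (Y i : P) = X i := fun i hi => by simp [Y, hi]
    obtain ⟨hKfin, hKle⟩ := ih (P := K) Y (fun hi => Subtype.ext (by simp [hY 0 hi, h0 (by omega)]))
      (fun i h1 hi => Subtype.ext (by simp [hY i hi, h2 i h1 (by omega)]))
      (fun i hi => Subtype.ext (by simp [hY i (by omega), hY (i + 1) hi, h3 i (by omega)]))
      (fun i j hij hj => Subtype.ext (by simp [hY i (by omega), hY j hj, hf i j hij (by omega)]))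
      (by
        apply Subgroup.map_injective K.subtype_injective
        rw [MonoidHom.map_closure, ← MonoidHom.range_eq_map, Subgroup.range_subtype]
        refine (congrArg Subgroup.closure ?_).trans hK.symm
        ext x
        constructor
        · rintro ⟨_, ⟨i, hi, rfl⟩, rfl⟩; exact ⟨i, hi, (hY i hi).symm⟩
        · rintro ⟨i, hi, rfl⟩; exact ⟨Y i, ⟨i, hi, rfl⟩, hY i hi⟩)
    let c : P ⧸ K := QuotientGroup.mk 1
    have h : ChainRel 1 m X c :=
      ⟨fun i h1 hi => h2 i h1 (by omega), le_rfl, fun i j hij hj => hf i j hij (by omega),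
        fun i _ hi => h3 i (by omega), fun i hi => by
          simp only [c, MulAction.Quotient.smul_mk, smul_eq_mul, mul_one, QuotientGroup.eq]
          exact K.inv_mem (Subgroup.subset_closure ⟨i, hi, rfl⟩)⟩
    set d := chain X c m with hd'
    set e := X 0 • d 0 with he
    have hd0 : d 0 = X 0 • d 1 := ChainRel.chain_succ (Nat.zero_le m)
    have hx3 := h0 (by omega)
    have he3 : X 0 • e = d 1 := by
      rw [he, hd0, ← mul_smul, ← mul_smul, show X 0 * X 0 * X 0 = X 0 ^ 3 by simp [pow_succ], hx3, one_smul]
    have he' : e = (X 0)⁻¹ • d 1 := by rw [← he3, inv_smul_smul]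
    -- the generators after the first exchange `d 0` and `e`
    have hswap : ∀ i, 1 ≤ i → i ≤ m → X i • d 0 = e := by
      intro i h1 hi
      have hi2 := inv_eq_of_mul_eq_one_right (h2 i h1 (by omega))
      rcases (show i = 1 ∨ 1 < i by omega) with rfl | hgt
      · have hb : X 1 * (X 0 * X 1) = (X 0)⁻¹ * X 1 * (X 0)⁻¹ := by
          have h' := h3 0 (by omega)
          rw [pow_succ, pow_two] at h'
          have h1' := eq_inv_of_mul_eq_one_left (a := X 0 * X 1 * X 0) (b := X 1 * (X 0 * X 1))
            (by rw [← h']; simp only [mul_assoc])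
          have h2' := congrArg (·⁻¹) h1'
          simp only [inv_inv, mul_inv_rev, hi2] at h2'
          rw [← h2', mul_assoc]
        have h02 : (X 0)⁻¹ • d 2 = d 2 := inv_smul_eq_iff.mpr (h.fix_of_lt (i := 0) (j := 2) (by omega) (by omega)).symm
        rw [hd0, he', show d 1 = X 1 • d 2 from ChainRel.chain_succ hi, ← mul_smul, ← mul_smul, mul_assoc, hb,
          mul_smul, h02, mul_smul]
      · have hb : X i * X 0 = (X 0)⁻¹ * X i := by
          have h' := hf 0 i (by omega) (by omega)
          rw [pow_two] at h'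
          have h1' := eq_inv_of_mul_eq_one_left h'
          calc X i * X 0 = X i * (X 0 * X i) * X i := by
                rw [mul_assoc (X i), mul_assoc (X 0), h2 i h1 (by omega), mul_one]
            _ = (X 0)⁻¹ * X i := by
                rw [h1', mul_inv_rev, ← mul_assoc (X i), mul_inv_cancel, one_mul]
        rw [hd0, ← mul_smul, hb, mul_smul, h.fix_low (i - 2) i 1 (by omega) le_rfl hi, he']
    have hfac : 2 * ((m + 3) * (Nat.card K)) ≤ (m + 1 + 2).factorial := by
      rw [show m + 1 + 2 = m + 2 + 1 from rfl, Nat.factorial_succ, ← mul_assoc, mul_comm 2 (m + 3), mul_assoc]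
      exact Nat.mul_le_mul_left _ hKle
    suffices hb : Finite P ∧ Nat.card P ≤ (m + 3) * Nat.card K from
      ⟨hb.1, (Nat.mul_le_mul_left 2 hb.2).trans hfac⟩
    refine card_le_of_stable K le_rfl _ hgen (insert e ((Finset.range (m + 2)).image d))
      ((Finset.card_insert_le _ _).trans (Nat.succ_le_succ (Finset.card_image_le.trans (by simp)))) ?_ ?_
    · exact Finset.mem_insert_of_mem (Finset.mem_image.mpr ⟨m + 1, by simp, ChainRel.chain_top⟩)
    · rintro _ ⟨i, hi, rfl⟩ p hp
      have hi' : i ≤ m := Nat.lt_succ_iff.mp hi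
      have hmem : ∀ l, l ≤ m + 1 → d l ∈ insert e ((Finset.range (m + 2)).image d) := fun l hl =>
        Finset.mem_insert_of_mem (Finset.mem_image.mpr ⟨l, by simp; omega, rfl⟩)
      rw [Finset.mem_insert, Finset.mem_image] at hp
      rcases hp with hpe | ⟨j, hj, rfl⟩
      · rw [hpe]
        rcases Nat.eq_zero_or_pos i with rfl | hpos
        · rw [he3]; exact hmem 1 (by omega)
        · have hv : X i • e = d 0 := by rw [← hswap i hpos hi', h.smul_inv_self hpos hi']
          rw [hv]; exact hmem 0 (by omega)
      · rw [Finset.mem_range] at hj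
        rcases Nat.eq_zero_or_pos j with rfl | hjpos
        · rcases Nat.eq_zero_or_pos i with rfl | hpos
          · exact Finset.mem_insert_self _ _
          · rw [hswap i hpos hi']; exact Finset.mem_insert_self _ _
        · obtain ⟨l, hl, hl'⟩ := h.smul_chain (i := i) (j := j) hi' (by omega) hjpos (by omega)
          rw [hl']; exact hmem l hl

end Cfsg.Agent.H66
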