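import Mathlib
import Cfsg.Agent.H66.Present

set_option autoImplicit false

/-!
Homomorphisms out of symmetric groups from Coxeter relations.
-/

namespace Cfsg.Agent.H66

/-- The adjacent transposition of `i` and `i+1` in `Fin (k+1)`. -/
def adjSwap (k i : ℕ) : Equiv.Perm (Fin (k + 1)) :=
  if h : i < k then Equiv.swap ⟨i, by omega⟩ ⟨i + 1, by omega⟩ else 1

theorem adjSwap_of_lt {k i : ℕ} (h : i < k) :
    adjSwap k i = Equiv.swap (⟨i, by omega⟩ : Fin (k + 1)) ⟨i + 1, by omega⟩ := by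
  simp [adjSwap, h]

theorem closure_adjSwap (k : ℕ) : Subgroup.closure (adjSwap k '' Set.Iio k) = ⊤ := by
  rw [eq_top_iff]
  intro g _
  have hg : g ∈ Submonoid.closure (Set.range fun i : Fin k => Equiv.swap i.castSucc i.succ) := by
    rw [Equiv.Perm.mclosure_swap_castSucc_succ]; trivial
  refine (Submonoid.closure_le (S := (Subgroup.closure (adjSwap k '' Set.Iio k)).toSubmonoid)).mpr ?_ hg
  rintro _ ⟨i, rfl⟩
  refine Subgroup.subset_closure ⟨i.1, i.2, ?_⟩
  rw [adjSwap_of_lt i.2]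
  rfl

theorem adjSwap_sq (k i : ℕ) : adjSwap k i * adjSwap k i = 1 := by
  unfold adjSwap
  split <;> simp

theorem adjSwap_braid {k i : ℕ} (h : i + 1 < k) : (adjSwap k i * adjSwap k (i + 1)) ^ 3 = 1 := by
  rw [adjSwap_of_lt (by omega : i < k), adjSwap_of_lt h,
    Equiv.swap_comm (⟨i, by omega⟩ : Fin (k + 1)) ⟨i + 1, by omega⟩,
    show (⟨i + 1 + 1, _⟩ : Fin (k + 1)) = ⟨i + 2, by omega⟩ from rfl]
  refine orderOf_dvd_iff_pow_eq_one.mp ?_
  rw [(Equiv.Perm.isThreeCycle_swap_mul_swap_same (by simp) (by simp) (by simp)).orderOf]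

theorem adjSwap_far {k i j : ℕ} (hij : i + 1 < j) (hj : j < k) :
    (adjSwap k i * adjSwap k j) ^ 2 = 1 := by
  have hd : Equiv.Perm.Disjoint (adjSwap k i) (adjSwap k j) := by
    rw [adjSwap_of_lt (by omega : i < k), adjSwap_of_lt hj]
    intro x
    by_cases hx : x.1 = i ∨ x.1 = i + 1
    · exact Or.inr (Equiv.swap_apply_of_ne_of_ne (Fin.ne_of_val_ne (by simp only; omega)) (Fin.ne_of_val_ne (by simp only; omega)))
    · exact Or.inl (Equiv.swap_apply_of_ne_of_ne (Fin.ne_of_val_ne (by simp only; omega)) (Fin.ne_of_val_ne (by simp only; omega)))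
  rw [pow_two, ← mul_assoc, mul_assoc (adjSwap k i), ← hd.commute.eq, ← mul_assoc, adjSwap_sq, one_mul, adjSwap_sq]

/-- Universal property of the symmetric group for the Coxeter presentation. -/
theorem exists_perm_hom {G : Type*} [Group G] (k : ℕ) (s : ℕ → G)
    (h2 : ∀ i, i < k → s i * s i = 1) (h3 : ∀ i, i + 1 < k → (s i * s (i + 1)) ^ 3 = 1)
    (hf : ∀ i j, i + 1 < j → j < k → (s i * s j) ^ 2 = 1) :
    ∃ φ : Equiv.Perm (Fin (k + 1)) →* G, ∀ i, i < k → φ (adjSwap k i) = s i := by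
  set Z : ℕ → Equiv.Perm (Fin (k + 1)) × G := fun i => (adjSwap k i, s i) with hZ
  set R := Subgroup.closure (Z '' Set.Iio k) with hR
  let Y : ℕ → R := fun i => if h : i < k then ⟨Z i, Subgroup.subset_closure ⟨i, h, rfl⟩⟩ else 1
  have hY : ∀ i, i < k → (Y i : Equiv.Perm (Fin (k + 1)) × G) = Z i := fun i hi => by simp [Y, hi]
  obtain ⟨hfin, hle⟩ := card_coxeterA_le k (P := R) Y
    (fun i hi => Subtype.ext (by
      simp only [Subgroup.coe_mul, hY i hi, OneMemClass.coe_one, hZ, Prod.mk_mul_mk, adjSwap_sq, h2 i hi]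
      rfl))
    (fun i hi => Subtype.ext (by
      simp only [SubmonoidClass.coe_pow, Subgroup.coe_mul, hY i (by omega), hY (i + 1) hi, OneMemClass.coe_one,
        hZ, Prod.mk_mul_mk, Prod.pow_mk, adjSwap_braid hi, h3 i hi]
      rfl))
    (fun i j hij hj => Subtype.ext (by
      simp only [SubmonoidClass.coe_pow, Subgroup.coe_mul, hY i (by omega), hY j hj, OneMemClass.coe_one,
        hZ, Prod.mk_mul_mk, Prod.pow_mk, adjSwap_far hij hj, hf i j hij hj]
      rfl))
    (by
      apply Subgroup.map_injective R.subtype_injective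
      rw [MonoidHom.map_closure, ← MonoidHom.range_eq_map, Subgroup.range_subtype]
      refine (congrArg Subgroup.closure ?_).trans hR.symm
      ext x
      constructor
      · rintro ⟨_, ⟨i, hi, rfl⟩, rfl⟩; exact ⟨i, hi, (hY i hi).symm⟩
      · rintro ⟨i, hi, rfl⟩; exact ⟨Y i, ⟨i, hi, rfl⟩, hY i hi⟩)
  let π : R →* Equiv.Perm (Fin (k + 1)) := (MonoidHom.fst _ _).comp R.subtype
  have hsur : Function.Surjective π := by
    rw [← MonoidHom.range_eq_top, eq_top_iff, ← closure_adjSwap k, Subgroup.closure_le]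
    rintro _ ⟨i, hi, rfl⟩
    exact ⟨Y i, by simp [π, hY i hi, hZ]⟩
  have hcard : Nat.card R = Nat.card (Equiv.Perm (Fin (k + 1))) :=
    le_antisymm (by rwa [Nat.card_perm, Nat.card_fin]) (Nat.card_le_card_of_surjective π hsur)
  let e := MulEquiv.ofBijective π ((Nat.bijective_iff_surjective_and_card π).mpr ⟨hsur, hcard⟩)
  refine ⟨((MonoidHom.snd _ _).comp R.subtype).comp e.symm.toMonoidHom, fun i hi => ?_⟩
  have : e.symm (adjSwap k i) = Y i := by
    rw [MulEquiv.symm_apply_eq]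
    show _ = π (Y i)
    simp [π, hY i hi, hZ]
  simp [this, hY i hi, hZ]

end Cfsg.Agent.H66
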