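import Mathlib

set_option autoImplicit false

namespace Cfsg.Agent.H66

/-- Generator of order 3. -/
def xSL : Matrix.SpecialLinearGroup (Fin 2) (ZMod 5) := ⟨!![0, 4; 1, 4], by decide⟩

/-- Generator of order 5. -/
def ySL : Matrix.SpecialLinearGroup (Fin 2) (ZMod 5) := ⟨!![1, 1; 0, 1], by decide⟩

/-- The central involution. -/
def zSL : Matrix.SpecialLinearGroup (Fin 2) (ZMod 5) := ⟨!![4, 0; 0, 4], by decide⟩

theorem xSL_pow : xSL ^ 3 = 1 := by decide +kernel
theorem ySL_pow : ySL ^ 5 = 1 := by decide +kernel
theorem zSL_pow : zSL ^ 2 = 1 := by decide +kernel
theorem xySL_pow : (xSL * ySL) ^ 2 = zSL := by decide +kernel
theorem zSL_comm_x : zSL * xSL = xSL * zSL := by decide +kernel
theorem zSL_comm_y : zSL * ySL = ySL * zSL := by decide +kernel

/-- Words exhausting the group. -/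
def slWords : List (List Bool) :=
  [[], [true], [false], [true, true], [false, true], [true, false], [false, false], [false, true, true], [true, false, true], [false, false, true], [true, true, false], [false, true, false], [true, false, false], [false, false, false], [true, false, true, true], [false, false, true, true], [true, true, false, true], [false, true, false, true], [true, false, false, true], [false, false, false, true], [false, true, true, false], [false, false, true, false], [true, true, false, false], [false, true, false, false], [true, false, false, false], [false, false, false, false], [true, true, false, true, true], [false, true, false, true, true], [true, false, false, true, true], [false, false, false, true, true], [false, true, true, false, true], [false, false, true, false, true], [true, true, false, false, true], [false, true, false, false, true], [true, false, false, false, true], [false, false, false, false, true], [false, false, true, true, false], [false, false, false, true, false], [false, true, true, false, false], [false, false, true, false, false], [false, true, false, false, false], [false, true, true, false, true, true], [false, false, true, false, true, true], [true, true, false, false, true, true], [false, true, false, false, true, true], [true, false, false, false, true, true], [false, false, false, false, true, true], [false, false, true, true, false, true], [false, false, false, true, false, true], [false, true, true, false, false, true], [false, false, true, false, false, true], [false, true, false, false, false, true], [true,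 false, false, true, true, false], [false, false, false, true, true, false], [true, false, false, false, true, false], [false, false, false, false, true, false], [false, false, true, true, false, false], [false, false, false, true, false, false], [false, false, true, false, false, false], [false, false, true, true, false, true, true], [false, false, false, true, false, true, true], [false, true, true, false, false, true, true], [false, false, true, false, false, true, true], [false, true, false, false, false, true, true], [true, false, false, true, true, false, true], [false, false, false, true, true, false, true], [true, false, false, false, true, false, true], [false, false, false, false, true, false, true], [false, false, true, true, false, false, true], [false, false, false, true, false, false, true], [false, false, true, false, false, false, true], [true, true, false, false, true, true, false], [false, true, false, false, true, true, false], [true, false, false, false, true, true, false], [true, false, false, true, true, false, false], [true, false, false, false, true, false, false], [false, false, false, false, true, false, false], [false, false, false, true, false, false, false], [true, false, false, true, true, false, true, true], [false, false, false, true, true, false, true, true], [true, false, false, false, true, false, true, true], [false, false, false, false, true, false, true, true], [false, false, true, true, false, false, true, true], [false, false, false, true, false, false, true, true], [false, false, true, false, false, false, true, true], [true,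 true, false, false, true, true, false, true], [false, true, false, false, true, true, false, true], [true, false, false, false, true, true, false, true], [true, false, false, true, true, false, false, true], [true, false, false, false, true, false, false, true], [false, false, false, false, true, false, false, true], [false, false, false, true, false, false, false, true], [false, true, true, false, false, true, true, false], [false, true, false, false, false, true, true, false], [true, true, false, false, true, true, false, false], [false, true, false, false, true, true, false, false], [true, false, false, false, true, false, false, false], [true, true, false, false, true, true, false, true, true], [false, true, false, false, true, true, false, true, true], [true, false, false, false, true, true, false, true, true], [true, false, false, true, true, false, false, true, true], [true, false, false, false, true, false, false, true, true], [false, false, false, false, true, false, false, true, true], [false, false, false, true, false, false, false, true, true], [false, true, true, false, false, true, true, false, true], [false, true, false, false, false, true, true, false, true], [true, true, false, false, true, true, false, false, true], [false, true, false, false, true, true, false, false, true], [true, false, false, false, true, false, false, false, true], [false, false, true, true, false, false, true, true, false], [false, false, true, false, false, false, true, true, false], [false, true, true, false, false, true, true, false, false], [false, true, true, false, false,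 true, true, false, true, true], [false, true, false, false, false, true, true, false, true, true], [false, true, false, false, true, true, false, false, true, true], [true, false, false, false, true, false, false, false, true, true], [false, false, true, true, false, false, true, true, false, true], [false, true, true, false, false, true, true, false, false, true], [true, false, false, true, true, false, false, true, true, false], [false, false, false, true, false, false, false, true, true, false]]

theorem mem_slWords : ∀ g : Matrix.SpecialLinearGroup (Fin 2) (ZMod 5),
    g ∈ slWords.map fun w => (w.map fun b => cond b xSL ySL).prod := by
  decide +kernel

theorem closure_xSL_ySL :
    Subgroup.closure ({xSL, ySL} : Set (Matrix.SpecialLinearGroup (Fin 2) (ZMod 5))) = ⊤ := by
  rw [eq_top_iff]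
  intro g _
  obtain ⟨w, -, rfl⟩ := List.mem_map.mp (mem_slWords g)
  refine Subgroup.list_prod_mem _ fun z hz => ?_
  obtain ⟨b, -, rfl⟩ := List.mem_map.mp hz
  cases b <;> exact Subgroup.subset_closure (by simp)

theorem card_SL25 : Nat.card (Matrix.SpecialLinearGroup (Fin 2) (ZMod 5)) = 120 := by
  rw [Nat.card_eq_fintype_card]
  decide +kernel

end Cfsg.Agent.H66
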