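import Mathlib

set_option autoImplicit false

/-!
Groups of order 60 with more than one Sylow 5-subgroup are alternating.
-/

namespace Cfsg.Agent.H66

variable {G : Type*} [Group G] [Finite G]

/-- An element of order 5 normalising a subgroup of order at most 5 other than itself centralises it. -/
theorem commute_of_normalizes_small {u : G} (hu : orderOf u = 5) (H : Subgroup G) (hH : Nat.card H ≤ 5)
    (hn : u ∈ Subgroup.normalizer (H : Set G)) : ∀ h ∈ H, u * h = h * u := by
  classical
  intro h hh
  by_contra hne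
  have hh1 : h ≠ 1 := fun e => hne (by simp [e])
  have hper : ∀ n : ℕ, u ^ n * h * (u ^ n)⁻¹ ∈ (H : Set G) \ {1} := fun n =>
    ⟨(Subgroup.mem_normalizer_iff.mp (Subgroup.pow_mem _ hn n) h).mp hh, by simp [hh1]⟩
  have hinj : Function.Injective (fun n : Fin 5 => u ^ (n : ℕ) * h * (u ^ (n : ℕ))⁻¹) := by
    intro a b hab
    by_contra hab'
    let c : G := (u ^ (a : ℕ))⁻¹ * u ^ (b : ℕ)
    have hc : c * h = h * c := by
      have hab2 : u ^ (a : ℕ) * h * (u ^ (a : ℕ))⁻¹ = u ^ (b : ℕ) * h * (u ^ (b : ℕ))⁻¹ := hab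
      calc c * h = (u ^ (a : ℕ))⁻¹ * (u ^ (b : ℕ) * h * (u ^ (b : ℕ))⁻¹) * u ^ (b : ℕ) := by simp [c, mul_assoc]
        _ = h * c := by rw [← hab2]; simp [c, mul_assoc]
    have hc1 : c ≠ 1 := fun e => hab' <| Fin.ext <|
      pow_injOn_Iio_orderOf (by simp [hu, a.2]) (by simp [hu, b.2]) (inv_mul_eq_one.mp e)
    have hcu : c ∈ Subgroup.zpowers u :=
      Subgroup.mul_mem _ (Subgroup.inv_mem _ (Subgroup.pow_mem _ (Subgroup.mem_zpowers u) _))
        (Subgroup.pow_mem _ (Subgroup.mem_zpowers u) _)
    have : Fact (Nat.Prime 5) := ⟨by norm_num⟩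
    have htop : u ∈ Subgroup.zpowers c := by
      have h1 : Subgroup.zpowers c = Subgroup.zpowers u := by
        refine Subgroup.eq_of_le_of_card_ge (Subgroup.zpowers_le.mpr hcu) ?_
        rw [Nat.card_zpowers, Nat.card_zpowers]
        rcases (Nat.dvd_prime (by norm_num)).mp (hu ▸ orderOf_dvd_of_mem_zpowers hcu) with h2 | h2
        · exact absurd (orderOf_eq_one_iff.mp h2) hc1
        · omega
      rw [h1]; exact Subgroup.mem_zpowers u
    obtain ⟨k, hk⟩ := htop
    exact hne (hk ▸ (Commute.zpow_left hc k).eq)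
  have hle : 5 ≤ Nat.card ((H : Set G) \ {1} : Set G) := by
    refine le_of_eq_of_le (Nat.card_fin 5).symm
      (Nat.card_le_card_of_injective (fun n : Fin 5 => ⟨_, hper n⟩) ?_)
    intro a b hab
    exact hinj (congrArg Subtype.val hab)
  rw [Nat.card_coe_set_eq, Set.ncard_diff_singleton_of_mem H.one_mem] at hle
  have h0 : ((H : Set G)).ncard = Nat.card H := rfl
  omega

theorem card_sylow_five_eq (m : ℕ) (hm : m = 12 ∨ m = 24) (hG : Nat.card G = 5 * m)
    (hns : Nat.card (Sylow 5 G) ≠ 1) (P : Sylow 5 G) :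
    Nat.card (P : Subgroup G) = 5 ∧ Nat.card (Sylow 5 G) = 6 ∧
      6 * Nat.card (Subgroup.normalizer ((P : Subgroup G) : Set G)) = 5 * m := by
  have : Fact (Nat.Prime 5) := ⟨by norm_num⟩
  have hP : Nat.card (P : Subgroup G) = 5 := by
    rw [show Nat.card (P : Subgroup G) = Nat.card P from rfl, P.card_eq_multiplicity, hG,
      Nat.factorization_mul (by norm_num) (by omega), Finsupp.add_apply,
      Nat.Prime.factorization_self (by norm_num), Nat.factorization_eq_zero_of_not_dvd (n := m) (by omega)]
    rfl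
  have hidx : (P : Subgroup G).index = m := by
    have := (P : Subgroup G).card_mul_index
    rw [hP, hG] at this
    omega
  have hd : Nat.card (Sylow 5 G) ∣ m := hidx ▸ P.card_dvd_index
  have hmod : Nat.card (Sylow 5 G) % 5 = 1 := card_sylow_modEq_one 5 G
  have h6 : Nat.card (Sylow 5 G) = 6 := by
    have hle := Nat.le_of_dvd (by omega) hd
    rcases hm with rfl | rfl <;>
      interval_cases h : Nat.card (Sylow 5 G) <;> omega
  refine ⟨hP, h6, ?_⟩
  rw [← h6, P.card_eq_index_normalizer, P.coe_coe, mul_comm, Subgroup.card_mul_index, hG]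

variable (m : ℕ) (hm : m = 12 ∨ m = 24) (hG : Nat.card G = 5 * m) (hns : Nat.card (Sylow 5 G) ≠ 1)

include hm hG hns in
theorem card_centralizer_dvd {u : G} (hu : orderOf u = 5) :
    Nat.card (Subgroup.centralizer ({u} : Set G)) ∣ 5 * m / 6 := by
  have : Fact (Nat.Prime 5) := ⟨by norm_num⟩
  obtain ⟨P, hP⟩ := (IsPGroup.of_card (p := 5) (n := 1) (G := Subgroup.zpowers u)
    (by rw [Nat.card_zpowers, hu, pow_one])).exists_le_sylow
  obtain ⟨h5, -, hN⟩ := card_sylow_five_eq m hm hG hns P
  have hPeq : Subgroup.zpowers u = (P : Subgroup G) :=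
    Subgroup.eq_of_le_of_card_ge hP (by rw [h5, Nat.card_zpowers, hu])
  have hle : Subgroup.centralizer ({u} : Set G) ≤ Subgroup.normalizer ((P : Subgroup G) : Set G) := by
    rw [← hPeq, ← Subgroup.centralizer_closure, ← Subgroup.zpowers_eq_closure]
    exact Subgroup.centralizer_le_normalizer _
  exact (Subgroup.card_dvd_of_le hle).trans (by rw [← hN, Nat.mul_div_cancel_left _ (by norm_num)])

include hm hG hns in
theorem not_normalizes_three {u : G} (hu : orderOf u = 5) (H : Subgroup G) (hH : Nat.card H = 3)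
    (hn : u ∈ Subgroup.normalizer (H : Set G)) : False := by
  have hle : H ≤ Subgroup.centralizer ({u} : Set G) := fun h hh =>
    Subgroup.mem_centralizer_singleton_iff.mpr (commute_of_normalizes_small hu H (by omega) hn h hh).symm
  have := (hH ▸ Subgroup.card_dvd_of_le hle).trans (card_centralizer_dvd m hm hG hns hu)
  rcases hm with rfl | rfl <;> omega

include hm hG hns in
theorem not_three_dvd_normal (M : Subgroup G) [M.Normal] (h3 : 3 ∣ Nat.card M) (h5 : ¬ 5 ∣ Nat.card M) :
    False := by
  have : Fact (Nat.Prime 3) := ⟨Nat.prime_three⟩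
  have : Fact (Nat.Prime 5) := ⟨by norm_num⟩
  obtain ⟨Q⟩ : Nonempty (Sylow 3 M) := inferInstance
  have hQ : Nat.card ((Q : Subgroup M).map M.subtype) = 3 := by
    rw [Subgroup.card_map_of_injective M.subtype_injective]
    obtain ⟨k, hk⟩ := IsPGroup.iff_card.mp Q.isPGroup'
    have hk1 : 3 ^ k ∣ 5 * m := hk ▸ ((Q : Subgroup M).card_subgroup_dvd_card.trans (hG ▸ M.card_subgroup_dvd_card))
    have hk0 : k ≠ 0 := fun h => Q.ne_bot_of_dvd_card h3 (Subgroup.card_eq_one.mp (by rw [hk, h, pow_zero]))
    have hk2 : k < 2 := by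
      by_contra hk2
      have : 9 ∣ 5 * m := (pow_dvd_pow 3 (Nat.le_of_not_lt hk2)).trans hk1
      rcases hm with rfl | rfl <;> omega
    rw [hk, show k = 1 by omega, pow_one]
  have hfr := Sylow.normalizer_sup_eq_top Q
  set N := Subgroup.normalizer (((Q : Subgroup M).map M.subtype : Subgroup G) : Set G) with hN
  have h5N : 5 ∣ Nat.card N := by
    by_contra h
    have h1 := Subgroup.relIndex_dvd_card M N
    have h2 : M.relIndex N = M.index := by
      rw [← Subgroup.relIndex_sup_right (K := M) (H := N), hfr, Subgroup.relIndex_top_right]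
    rw [h2] at h1
    have h3' : 5 ∣ Nat.card M * M.index := by rw [M.card_mul_index, hG]; exact dvd_mul_right 5 m
    rcases (Nat.Prime.dvd_mul (by norm_num)).mp h3' with h4 | h4
    · exact h5 h4
    · exact h (h4.trans h1)
  obtain ⟨⟨u, huN⟩, hu⟩ := exists_prime_orderOf_dvd_card' 5 h5N
  rw [Subgroup.orderOf_mk] at hu
  exact not_normalizes_three m hm hG hns hu _ hQ huN

include hm hG hns in
theorem normalizer_not_le_centralizer (P : Sylow 5 G) :
    ¬ Subgroup.normalizer ((P : Subgroup G) : Set G) ≤ Subgroup.centralizer ((P : Subgroup G) : Set G) := by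
  intro h
  have : Fact (Nat.Prime 5) := ⟨by norm_num⟩
  have hc := MonoidHom.ker_transferSylow_isComplement' P h
  have h1 := hc.card_mul
  rw [(card_sylow_five_eq m hm hG hns P).1, hG] at h1
  refine not_three_dvd_normal m hm hG hns (MonoidHom.transferSylow P h).ker ?_ ?_ <;>
    rcases hm with rfl | rfl <;> omega

/-- A group of order 60 with more than one Sylow 5-subgroup is alternating of degree five. -/
theorem iso_altFive {G : Type*} [Group G] [Finite G] (hG : Nat.card G = 60)
    (hns : Nat.card (Sylow 5 G) ≠ 1) : Nonempty (G ≃* alternatingGroup (Fin 5)) := by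
  classical
  have : Fact (Nat.Prime 5) := ⟨by norm_num⟩
  have : Fact (Nat.Prime 2) := ⟨Nat.prime_two⟩
  have hG' : Nat.card G = 5 * 12 := hG
  -- no involution centralises an element of order five
  have htwo : ∀ t u : G, orderOf t = 2 → orderOf u = 5 → t * u ≠ u * t := by
    intro t u ht hu htu
    obtain ⟨P, hP⟩ := (IsPGroup.of_card (p := 5) (n := 1) (G := Subgroup.zpowers u)
      (by rw [Nat.card_zpowers, hu, pow_one])).exists_le_sylow
    obtain ⟨h5, -, hN⟩ := card_sylow_five_eq 12 (Or.inl rfl) hG' hns P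
    have hPeq : Subgroup.zpowers u = (P : Subgroup G) :=
      Subgroup.eq_of_le_of_card_ge hP (by rw [h5, Nat.card_zpowers, hu])
    set C := Subgroup.centralizer ((P : Subgroup G) : Set G) ⊓ Subgroup.normalizer ((P : Subgroup G) : Set G) with hC
    have hu' : u ∈ C := by
      refine ⟨?_, Subgroup.le_normalizer (hPeq ▸ Subgroup.mem_zpowers u)⟩
      rw [← hPeq]
      rintro _ ⟨k, rfl⟩
      exact Commute.zpow_left (Commute.refl u) k
    have ht' : t ∈ C := by
      have hc : t ∈ Subgroup.centralizer ((P : Subgroup G) : Set G) := by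
        rw [← hPeq]
        rintro _ ⟨k, rfl⟩
        exact Commute.zpow_left (Commute.symm htu) k
      exact ⟨hc, Subgroup.centralizer_le_normalizer _ hc⟩
    have hN10 : Nat.card (Subgroup.normalizer ((P : Subgroup G) : Set G)) = 10 := by omega
    have hord : Nat.card C = 10 := by
      apply Nat.dvd_antisymm
      · exact hN10 ▸ Subgroup.card_dvd_of_le (inf_le_right : C ≤ _)
      · have h2 := C.orderOf_dvd_natCard ht'
        have h5' := C.orderOf_dvd_natCard hu'
        rw [ht] at h2
        rw [hu] at h5'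
        exact Nat.Coprime.mul_dvd_of_dvd_of_dvd (by norm_num : Nat.Coprime 2 5) h2 h5'
    refine normalizer_not_le_centralizer 12 (Or.inl rfl) hG' hns P ?_
    rw [← Subgroup.eq_of_le_of_card_ge (inf_le_right : C ≤ _) (hN10.trans hord.symm).le]
    exact inf_le_left
  -- a subgroup of index five
  have hS : ∀ S : Sylow 2 G, Nat.card (S : Subgroup G) = 4 := fun S => by
    rw [show Nat.card (S : Subgroup G) = Nat.card S from rfl, S.card_eq_multiplicity, hG,
      show (60 : ℕ) = 2 ^ 2 * 15 from rfl, Nat.factorization_mul (by norm_num) (by norm_num),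
      Finsupp.add_apply, Nat.prime_two.factorization_pow, Nat.factorization_eq_zero_of_not_dvd (n := 15) (by norm_num)]
    simp
  obtain ⟨S⟩ : Nonempty (Sylow 2 G) := inferInstance
  obtain ⟨M, hM⟩ : ∃ M : Subgroup G, M.index = 5 := by
    have hidxS : (S : Subgroup G).index = 15 := by
      have := (S : Subgroup G).card_mul_index
      rw [hS, hG] at this
      omega
    have hd : Nat.card (Sylow 2 G) ∣ 15 := hidxS ▸ S.card_dvd_index
    have hle := Nat.le_of_dvd (by norm_num) hd
    have hcases : Nat.card (Sylow 2 G) ≤ 3 ∨ Nat.card (Sylow 2 G) = 5 ∨ Nat.card (Sylow 2 G) = 15 := by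
      interval_cases h : Nat.card (Sylow 2 G) <;> omega
    rcases hcases with h | h | h
    · exfalso
      obtain ⟨⟨u, hu⟩⟩ : Nonempty {u : G // orderOf u = 5} := by
        obtain ⟨u, hu⟩ := exists_prime_orderOf_dvd_card' (G := G) 5 (by omega)
        exact ⟨⟨u, hu⟩⟩
      have hpg : IsPGroup 5 (Subgroup.zpowers u) :=
        IsPGroup.of_card (n := 1) (by rw [Nat.card_zpowers, hu, pow_one])
      have hfix : u • S = S := by
        obtain ⟨n, hn⟩ := hpg.card_orbit S
        have h1 : Nat.card (MulAction.orbit (Subgroup.zpowers u) S) ≤ 3 :=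
          (Nat.card_le_card_of_injective _ Subtype.val_injective).trans h
        rw [hn] at h1
        have hn0 : n = 0 := by
          by_contra hn0
          exact absurd ((Nat.le_self_pow hn0 5).trans h1) (by norm_num)
        rw [hn0, pow_zero, Nat.card_coe_set_eq, Set.ncard_eq_one] at hn
        obtain ⟨w, hw⟩ := hn
        have h2 := hw ▸ MulAction.mem_orbit S (⟨u, Subgroup.mem_zpowers u⟩ : Subgroup.zpowers u)
        have h3 := hw ▸ MulAction.mem_orbit_self (M := Subgroup.zpowers u) S
        exact (Set.mem_singleton_iff.mp h2).trans (Set.mem_singleton_iff.mp h3).symm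
      have hle : (S : Subgroup G) ≤ Subgroup.centralizer ({u} : Set G) := fun s hs =>
        Subgroup.mem_centralizer_singleton_iff.mpr
          (commute_of_normalizes_small hu S (by rw [hS]; norm_num) (Sylow.smul_eq_iff_mem_normalizer.mp hfix) s hs).symm
      have := (hS S ▸ Subgroup.card_dvd_of_le hle).trans (card_centralizer_dvd 12 (Or.inl rfl) hG' hns hu)
      omega
    · exact ⟨_, S.card_eq_index_normalizer.symm.trans h⟩
    · -- two Sylow 2-subgroups meet
      obtain ⟨S₁, S₂, t, hne, ht1, ht2, ht⟩ : ∃ (S₁ S₂ : Sylow 2 G) (t : G),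
          S₁ ≠ S₂ ∧ t ∈ (S₁ : Subgroup G) ∧ t ∈ (S₂ : Subgroup G) ∧ t ≠ 1 := by
        by_contra hno
        push Not at hno
        let f₂ : (Σ S : Sylow 2 G, {t : (S : Subgroup G) // t ≠ 1}) → G := fun x => x.2.1
        let f₅ : (Σ P : Sylow 5 G, {t : (P : Subgroup G) // t ≠ 1}) → G := fun x => x.2.1
        have h2inj : Function.Injective f₂ := by
          rintro ⟨S₁, ⟨⟨t, ht1⟩, htne⟩⟩ ⟨S₂, ⟨⟨t', ht2⟩, htne'⟩⟩ (rfl : t = t')
          obtain rfl : S₁ = S₂ := by
            by_contra hne
            exact htne (Subtype.ext (hno S₁ S₂ t hne ht1 ht2))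
          rfl
        have h5inj : Function.Injective f₅ := by
          rintro ⟨P₁, ⟨⟨t, ht1⟩, htne⟩⟩ ⟨P₂, ⟨⟨t', ht2⟩, htne'⟩⟩ (rfl : t = t')
          obtain rfl : P₁ = P₂ := by
            by_contra hne
            have hc1 := (card_sylow_five_eq 12 (Or.inl rfl) hG' hns P₁).1
            have hc2 := (card_sylow_five_eq 12 (Or.inl rfl) hG' hns P₂).1
            have key : ∀ P : Subgroup G, Nat.card P = 5 → t ∈ P → Subgroup.zpowers t = P := fun P hP ht' => by
              refine Subgroup.eq_of_le_of_card_ge (Subgroup.zpowers_le.mpr ht') ?_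
              rw [hP, Nat.card_zpowers]
              rcases (Nat.dvd_prime (by norm_num)).mp (hP ▸ P.orderOf_dvd_natCard ht') with h | h
              · exact absurd (Subtype.ext (orderOf_eq_one_iff.mp h)) htne
              · omega
            exact hne (Sylow.ext ((key _ hc1 ht1).symm.trans (key _ hc2 ht2)))
          rfl
        have hdisj : ∀ a b, f₂ a ≠ f₅ b := by
          intro a b hab
          have h1 := (a.1 : Subgroup G).orderOf_dvd_natCard a.2.1.2
          have h2 := (b.1 : Subgroup G).orderOf_dvd_natCard b.2.1.2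
          rw [hS] at h1
          rw [(card_sylow_five_eq 12 (Or.inl rfl) hG' hns b.1).1] at h2
          rw [show ((a.2.1 : (a.1 : Subgroup G)) : G) = ((b.2.1 : (b.1 : Subgroup G)) : G) from hab] at h1
          have h3 := Nat.dvd_gcd h1 h2
          exact b.2.2 (Subtype.ext (orderOf_eq_one_iff.mp (Nat.eq_one_of_dvd_one h3)))
        have hbig := Nat.card_le_card_of_injective (Sum.elim f₂ f₅) (h2inj.sumElim h5inj hdisj)
        have hsub : ∀ (H : Subgroup G), Nat.card {t : H // t ≠ 1} = Nat.card H - 1 := fun H => by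
          have : Fintype H := Fintype.ofFinite H
          simp [Nat.card_eq_fintype_card, Fintype.card_subtype_compl]
        have : Fintype (Sylow 2 G) := Fintype.ofFinite _
        have : Fintype (Sylow 5 G) := Fintype.ofFinite _
        rw [Nat.card_sum, Nat.card_sigma, Nat.card_sigma,
          Finset.sum_congr rfl (fun (S : Sylow 2 G) _ => (hsub S).trans (congrArg (· - 1) (hS S))),
          Finset.sum_congr rfl (fun (P : Sylow 5 G) _ => (hsub P).trans
            (congrArg (· - 1) (card_sylow_five_eq 12 (Or.inl rfl) hG' hns P).1)),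
          Finset.sum_const, Finset.sum_const, Finset.card_univ, Finset.card_univ,
          ← Nat.card_eq_fintype_card, ← Nat.card_eq_fintype_card, h, hG,
          (card_sylow_five_eq 12 (Or.inl rfl) hG' hns default).2.1] at hbig
        norm_num at hbig
      set C := Subgroup.centralizer ({t} : Set G) with hC
      have hle : ∀ S : Sylow 2 G, t ∈ (S : Subgroup G) → (S : Subgroup G) ≤ C := by
        intro S hts s hs
        have := IsPGroup.commutative_of_card_eq_prime_sq (p := 2) (G := (S : Subgroup G)) (by rw [hS]; rfl)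
          ⟨s, hs⟩ ⟨t, hts⟩
        exact Subgroup.mem_centralizer_singleton_iff.mpr (congrArg Subtype.val this)
      have h4 : 4 ∣ Nat.card C := hS S₁ ▸ Subgroup.card_dvd_of_le (hle S₁ ht1)
      have hne4 : Nat.card C ≠ 4 := fun h4' =>
        hne (Sylow.ext ((Subgroup.eq_of_le_of_card_ge (hle S₁ ht1) (by rw [hS, h4'])).trans
          (Subgroup.eq_of_le_of_card_ge (hle S₂ ht2) (by rw [hS, h4'])).symm))
      have h60 : Nat.card C ∣ 60 := hG ▸ C.card_subgroup_dvd_card
      have h5 : ¬ 5 ∣ Nat.card C := by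
        intro h5
        obtain ⟨⟨u, huC⟩, hu⟩ := exists_prime_orderOf_dvd_card' 5 h5
        rw [Subgroup.orderOf_mk] at hu
        have h2 : 2 ∣ orderOf t := by
          have h1 := (S₁ : Subgroup G).orderOf_dvd_natCard ht1
          rw [hS, show (4 : ℕ) = 2 ^ 2 from rfl, Nat.dvd_prime_pow Nat.prime_two] at h1
          obtain ⟨k, -, hk⟩ := h1
          rw [hk]
          exact dvd_pow_self 2 fun h0 => ht (orderOf_eq_one_iff.mp (by rw [hk, h0, pow_zero]))
        have hord : orderOf (t ^ (orderOf t / 2)) = 2 :=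
          orderOf_pow_orderOf_div (orderOf_pos t).ne' h2
        exact htwo _ u hord hu (Commute.pow_left (Commute.symm (Subgroup.mem_centralizer_singleton_iff.mp huC)) _)
      refine ⟨C, ?_⟩
      have := C.card_mul_index
      have hle60 := Nat.le_of_dvd (by norm_num) h60
      interval_cases hh : Nat.card C <;> omega
  -- its core is trivial
  have hcard : Nat.card M = 12 := by
    have := M.card_mul_index
    rw [hM, hG] at this
    omega
  have hcore : M.normalCore = ⊥ := by
    by_contra hne
    have hd : Nat.card M.normalCore ∣ 12 := hcard ▸ Subgroup.card_dvd_of_le M.normalCore_le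
    have h3 : ¬ 3 ∣ Nat.card M.normalCore := fun h =>
      not_three_dvd_normal 12 (Or.inl rfl) hG' hns _ h (fun h5 => by have := h5.trans hd; omega)
    have hd4 : Nat.card M.normalCore ∣ 4 := by
      refine (Nat.Coprime.dvd_mul_right ?_).mp (show Nat.card M.normalCore ∣ 4 * 3 from hd)
      exact ((Nat.Prime.coprime_iff_not_dvd Nat.prime_three).mpr h3).symm
    have h2 : 2 ∣ Nat.card M.normalCore := by
      rcases (Nat.dvd_prime_pow Nat.prime_two).mp (show Nat.card M.normalCore ∣ 2 ^ 2 from hd4) with ⟨k, -, hk⟩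
      rw [hk]
      exact dvd_pow_self 2 fun h0 => hne (Subgroup.card_eq_one.mp (by rw [hk, h0, pow_zero]))
    obtain ⟨⟨t, htC⟩, ht⟩ := exists_prime_orderOf_dvd_card' 2 h2
    rw [Subgroup.orderOf_mk] at ht
    obtain ⟨u, hu⟩ := exists_prime_orderOf_dvd_card' (G := G) 5 (by omega)
    refine htwo t u ht hu (commute_of_normalizes_small hu _ ((Nat.le_of_dvd (by norm_num) hd4).trans (by norm_num)) ?_ t htC).symm
    rw [Subgroup.normalizer_eq_top]
    exact Subgroup.mem_top u
  let f := MulAction.toPermHom G (G ⧸ M)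
  have hf : Function.Injective f := (MonoidHom.ker_eq_bot_iff f).mp (by rw [← Subgroup.normalCore_eq_ker, hcore])
  have : Fintype (G ⧸ M) := Fintype.ofFinite _
  have hq : Fintype.card (G ⧸ M) = 5 := by rw [← Nat.card_eq_fintype_card, ← Subgroup.index_eq_card, hM]
  let e : Equiv.Perm (G ⧸ M) ≃* Equiv.Perm (Fin 5) := (Fintype.equivFinOfCardEq hq).permCongrHom
  let g : G →* Equiv.Perm (Fin 5) := e.toMonoidHom.comp f
  have hg : Function.Injective g := e.injective.comp hf
  have hr : g.range = alternatingGroup (Fin 5) := by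
    refine Equiv.Perm.eq_alternatingGroup_of_index_eq_two ?_
    have h1 := g.range.card_mul_index
    rw [← Nat.card_congr (MonoidHom.ofInjective hg).toEquiv, hG, Nat.card_perm, Nat.card_fin,
      show Nat.factorial 5 = 120 from rfl] at h1
    omega
  exact ⟨(MonoidHom.ofInjective hg).trans (MulEquiv.subgroupCongr hr)⟩

end Cfsg.Agent.H66
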