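import Cfsg.Agent.S3224
import Cfsg.Agent.PGroups.Basic
import Mathlib.GroupTheory.SpecificGroups.Dihedral
import Mathlib.GroupTheory.GroupAction.Quotient

/-!
# 2-groups with fixity two
-/

set_option autoImplicit false
set_option linter.unusedSectionVars false
set_option linter.style.haveILetI false

namespace Cfsg.Agent.H66.FixityTwo

open Subgroup MulAction

variable {P X : Type*} [Group P] [Finite P] [MulAction P X]

/-- At most two fixed points, phrased with three points. -/
def AtMostTwo (P X : Type*) [Group P] [MulAction P X] : Prop :=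
  ∀ g : P, g ≠ 1 → ∀ a b c : X, g • a = a → g • b = b → g • c = c → a ≠ b → c = a ∨ c = b

theorem index_le_two_of_orbit {C : Subgroup P} {x a b : X}
    (h : ∀ c ∈ C, c • x = a ∨ c • x = b) : (stabilizer P x).relIndex C ≤ 2 := by
  have e : (stabilizer P x).relIndex C = (stabilizer C x).index := rfl
  rw [e, index_stabilizer]
  refine (Set.ncard_le_ncard (t := ({a, b} : Set X)) ?_ (Set.toFinite _)).trans ?_
  · rintro _ ⟨c, rfl⟩
    exact h c c.2
  · exact (Set.ncard_insert_le _ _).trans (by simp)

theorem card_le_of_relIndex {A C : Subgroup P} (h : A.relIndex C ≤ 2) :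
    Nat.card C ≤ 2 * Nat.card A := by
  rw [← (A.subgroupOf C).index_mul_card]
  refine Nat.mul_le_mul h ?_
  have : Function.Injective (fun x : A.subgroupOf C => (⟨((x : C) : P), x.2⟩ : A)) := by
    intro x y hxy
    have := congrArg Subtype.val hxy
    exact Subtype.ext (Subtype.ext this)
  exact Nat.card_le_card_of_injective _ this

theorem klein_of_two_involutions (hc : Nat.card P = 4) {u z : P} (hu : u * u = 1) (hz : z * z = 1)
    (hu1 : u ≠ 1) (hz1 : z ≠ 1) (huz : u ≠ z) : Nonempty (P ≃* DihedralGroup 2) := by
  haveI : Fact (Nat.Prime 2) := ⟨Nat.prime_two⟩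
  have hncyc : ¬ IsCyclic P := by
    intro hcyc
    haveI := hcyc
    have hsub : ({1, u, z} : Set P) ⊆ {a : P | a ^ 2 = 1} := by
      rintro a (rfl | rfl | rfl) <;> simp [pow_two, hu, hz]
    classical
    haveI := Fintype.ofFinite P
    have h2 := IsCyclic.card_pow_eq_one_le (α := P) (n := 2) two_pos
    have h3 : ({1, u, z} : Finset P).card = 3 := by
      rw [Finset.card_insert_of_notMem (by simp [hu1.symm, hz1.symm]),
        Finset.card_insert_of_notMem (by simp [huz]), Finset.card_singleton]
    have h4 : ({1, u, z} : Finset P).card ≤ 2 := by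
      refine (Finset.card_le_card ?_).trans h2
      intro a ha
      simp only [Finset.mem_insert, Finset.mem_singleton] at ha
      rcases ha with rfl | rfl | rfl <;> simp [pow_two, hu, hz]
    omega
  haveI : IsKleinFour P := by
    refine ⟨hc, ?_⟩
    exact (not_isCyclic_iff_exponent_eq_prime Nat.prime_two (by rw [hc]; norm_num)).mp hncyc
  exact IsKleinFour.nonempty_mulEquiv

/-- The structure of a 2-group in an action of fixity two with a nontrivial proper point
stabiliser. -/
theorem two_group_fixity (hP : IsPGroup 2 P) (hfix : AtMostTwo P X) (α : X)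
    (h1 : stabilizer P α ≠ ⊥) (h2 : stabilizer P α ≠ ⊤) :
    (((∃ n : ℕ, Nonempty (P ≃* DihedralGroup n)) ∨ Cfsg.IsQuasiDihedral P) ∧
        (Nat.card (stabilizer P α) = 2 ∨ (stabilizer P α).index = 2)) ∨
      ((stabilizer P α).index = 2 ∧ 4 ≤ Nat.card P ∧
        ∀ x : X, x ∉ orbit P α → stabilizer P x = ⊥) := by
  haveI : Fact (Nat.Prime 2) := ⟨Nat.prime_two⟩
  set A := stabilizer P α with hA
  obtain ⟨g₀, hg₀N, hg₀A⟩ := SetLike.exists_of_lt (PGroups.lt_normalizer hP h2)
  set β := g₀ • α with hβ
  have hαβ : α ≠ β := fun h => hg₀A (mem_stabilizer_iff.mpr h.symm)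
  have hAfix : ∀ n ∈ normalizer (A : Set P), ∀ a ∈ A, a • n • α = n • α := by
    intro n hn a ha
    have h := (mem_normalizer_iff.mp (inv_mem hn) a).mp ha
    rw [inv_inv] at h
    have h' := mem_stabilizer_iff.mp h
    rwa [mul_smul, mul_smul, inv_smul_eq_iff] at h'
  have hAβ : ∀ a ∈ A, a • β = β := hAfix g₀ hg₀N
  have hFix : ∀ a ∈ A, a ≠ 1 → ∀ x : X, a • x = x → x = α ∨ x = β := fun a ha ha1 x hx =>
    hfix a ha1 α β x (mem_stabilizer_iff.mp ha) (hAβ a ha) hx hαβ
  obtain ⟨a₁, ha₁A, ha₁ne⟩ : ∃ a ∈ A, a ≠ 1 := by
    by_contra! h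
    exact h1 ((eq_bot_iff_forall _).mpr h)
  have hN : A.relIndex (normalizer (A : Set P)) ≤ 2 :=
    index_le_two_of_orbit fun n hn => hFix a₁ ha₁A ha₁ne _ (hAfix n hn a₁ ha₁A)
  by_cases hc : A ⊓ center P = ⊥
  · -- the stabiliser has order two
    left
    have hnn : normalizer (A : Set P) ≠ ⊤ := fun h => by
      haveI : A.Normal := normalizer_eq_top_iff.mp h
      exact PGroups.inf_center_ne_bot hP A h1 hc
    obtain ⟨g, hgN, hg⟩ := SetLike.exists_of_lt (PGroups.lt_normalizer hP hnn)
    set B := stabilizer P (g • α) with hB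
    have hBN : B ≤ normalizer (A : Set P) := by
      intro b hb
      have hb' : g⁻¹ * b * g ∈ normalizer (A : Set P) := by
        apply le_normalizer
        refine mem_stabilizer_iff.mpr ?_
        rw [mul_smul, mul_smul, mem_stabilizer_iff.mp hb, inv_smul_smul]
      have := (mem_normalizer_iff.mp hgN _).mp hb'
      simpa [mul_assoc] using this
    have hAB : A ⊓ B = ⊥ := by
      rw [eq_bot_iff_forall]
      rintro b ⟨hbA, hbB⟩
      by_contra hb1
      rcases hFix b hbA hb1 _ (mem_stabilizer_iff.mp hbB) with h | h
      · exact hg (le_normalizer (mem_stabilizer_iff.mpr h))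
      · have : g₀⁻¹ * g ∈ A := mem_stabilizer_iff.mpr (by rw [mul_smul, h, inv_smul_smul])
        have := mul_mem hg₀N (le_normalizer this : g₀⁻¹ * g ∈ normalizer (A : Set P))
        rw [mul_inv_cancel_left] at this
        exact hg this
    have hcB : Nat.card B ≤ 2 := by
      have hi : A.relIndex B ≤ 2 := by
        refine le_trans ?_ hN
        exact relIndex_le_of_le_right hBN (index_ne_zero_of_finite)
      have : A.relIndex B = Nat.card B := by
        rw [← inf_relIndex_right, hAB, relIndex_bot_left]
      omega
    have hcAB : Nat.card A = Nat.card B := by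
      refine Nat.card_congr (Equiv.subtypeEquiv (MulAut.conj g).toEquiv fun a => ?_)
      simp [hA, hB, mem_stabilizer_iff, mul_smul]
    have hcA : Nat.card A = 2 := by
      haveI : Nontrivial A := (nontrivial_iff_ne_bot _).mpr h1
      have := Finite.one_lt_card (α := A)
      omega
    refine ⟨?_, Or.inl hcA⟩
    obtain ⟨s, hsA, hs⟩ := PGroups.exists_orderOf_eq hP h1
    have hs1 : s ≠ 1 := fun h => by rw [h, orderOf_one] at hs; omega
    have hone : ∀ a ∈ A, a = 1 ∨ a = s := by
      intro a ha
      by_contra! h
      haveI := Fintype.ofFinite A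
      classical
      have : ({1, ⟨s, hsA⟩, ⟨a, ha⟩} : Finset A).card ≤ 2 := by
        rw [← hcA, Nat.card_eq_fintype_card]; exact Finset.card_le_univ _
      rw [Finset.card_insert_of_notMem, Finset.card_insert_of_notMem, Finset.card_singleton] at this
      · omega
      · simp [Subtype.ext_iff, h.2.symm]
      · simp [Subtype.ext_iff, h.1.symm, hs1.symm]
    have hCle : Nat.card (centralizer ({s} : Set P)) ≤ 4 := by
      refine (card_le_of_relIndex (A := A) (index_le_two_of_orbit (a := α) (b := β) fun c hc => ?_)).trans (by omega)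
      refine hFix s hsA hs1 _ ?_
      rw [← mul_smul, mem_centralizer_singleton_iff.mp hc |>.symm, mul_smul,
        mem_stabilizer_iff.mp hsA]
    have hNC : normalizer (A : Set P) ≤ centralizer ({s} : Set P) := by
      intro n hn
      rw [mem_centralizer_singleton_iff]
      rcases hone _ ((mem_normalizer_iff.mp hn s).mp hsA) with h | h
      · exact absurd (conj_eq_one_iff.mp h) hs1
      · rwa [mul_inv_eq_iff_eq_mul] at h
    have hN4 : Nat.card (normalizer (A : Set P)) = 4 := by
      refine le_antisymm (le_trans (Nat.card_le_card_of_injective _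
        (inclusion_injective hNC)) hCle) ?_
      rw [← (A.subgroupOf (normalizer (A : Set P))).index_mul_card,
        Nat.card_congr (subgroupOfEquivOfLe le_normalizer).toEquiv, hcA]
      have : 1 < A.relIndex (normalizer (A : Set P)) := by
        have h0 : A.relIndex (normalizer (A : Set P)) ≠ 0 := index_ne_zero_of_finite
        have h1' : A.relIndex (normalizer (A : Set P)) ≠ 1 := fun h =>
          hg₀A (relIndex_eq_one.mp h hg₀N)
        omega
      rw [Subgroup.relIndex] at this
      omega
    have hC : Nat.card (centralizer ({s} : Set P)) = 4 :=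
      le_antisymm hCle (hN4 ▸ Nat.card_le_card_of_injective _ (inclusion_injective hNC))
    rcases Cfsg.Agent.S3224.result hP s hs hC with h | h | h
    · exact Or.inl h
    · exact Or.inr h
    · exact absurd ((card_eq_iff_eq_top _).mp (hN4.trans h.symm)) hnn
  · -- a central element fixes α
    obtain ⟨z, hz, hz1⟩ : ∃ z ∈ A ⊓ center P, z ≠ 1 := by
      by_contra! h
      exact hc ((eq_bot_iff_forall _).mpr h)
    have horb : ∀ g : P, g • α = α ∨ g • α = β := fun g =>
      hFix z hz.1 hz1 _ (by
        rw [← mul_smul, ← mem_center_iff.mp hz.2 g, mul_smul, mem_stabilizer_iff.mp hz.1])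
    have hidx : A.index = 2 := by
      have h' : A.index ≤ 2 := by
        rw [← relIndex_top_right]
        exact index_le_two_of_orbit fun g _ => horb g
      have h'' : A.index ≠ 1 := mt index_eq_one.mp h2
      have h0 : A.index ≠ 0 := index_ne_zero_of_finite
      omega
    by_cases hreg : ∀ x : X, x ∉ orbit P α → stabilizer P x = ⊥
    · refine Or.inr ⟨hidx, ?_, hreg⟩
      haveI : Nontrivial A := (nontrivial_iff_ne_bot _).mpr h1
      rw [← A.index_mul_card, hidx]
      have := Finite.one_lt_card (α := A)
      omega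
    push Not at hreg
    obtain ⟨x, hx, hne⟩ := hreg
    left
    refine ⟨?_, Or.inr hidx⟩
    set B := stabilizer P x with hB
    have hAB : A ⊓ B = ⊥ := by
      rw [eq_bot_iff_forall]
      rintro b ⟨hbA, hbB⟩
      by_contra hb1
      rcases hFix b hbA hb1 _ (mem_stabilizer_iff.mp hbB) with h | h
      · exact hx (by rw [h]; exact mem_orbit_self α)
      · exact hx (by rw [h]; exact mem_orbit α g₀)
    have hcB : Nat.card B ≤ 2 := by
      have : A.relIndex B = Nat.card B := by
        rw [← inf_relIndex_right, hAB, relIndex_bot_left]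
      rw [← this, ← hidx, ← relIndex_top_right]
      exact relIndex_le_of_le_right le_top index_ne_zero_of_finite
    obtain ⟨u, huB, hu⟩ := PGroups.exists_orderOf_eq hP hne
    have hu1 : u ≠ 1 := fun h => by rw [h, orderOf_one] at hu; omega
    have huA : u ∉ A := fun h => hu1 ((eq_bot_iff_forall _).mp hAB u ⟨h, huB⟩)
    have hCle : Nat.card (centralizer ({u} : Set P)) ≤ 4 := by
      by_cases hsingle : ∀ c ∈ centralizer ({u} : Set P), c • x = x
      · refine (card_le_of_relIndex (A := B) (index_le_two_of_orbit (a := x) (b := x)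
          fun c hc => Or.inl (hsingle c hc))).trans (by omega)
      push Not at hsingle
      obtain ⟨c₀, hc₀, hc₀x⟩ := hsingle
      refine (card_le_of_relIndex (A := B) (index_le_two_of_orbit (a := x) (b := c₀ • x)
          fun c hc => ?_)).trans (by omega)
      have hfixu : ∀ c ∈ centralizer ({u} : Set P), u • c • x = c • x := fun c hc => by
        rw [← mul_smul, mem_centralizer_singleton_iff.mp hc |>.symm, mul_smul,
          mem_stabilizer_iff.mp huB]
      exact hfix u hu1 x (c₀ • x) (c • x) (mem_stabilizer_iff.mp huB) (hfixu c₀ hc₀)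
        (hfixu c hc) (Ne.symm hc₀x)
    have huz : u ≠ z := fun h => huA (h ▸ hz.1)
    have hC : Nat.card (centralizer ({u} : Set P)) = 4 := by
      classical
      haveI := Fintype.ofFinite (centralizer ({u} : Set P))
      obtain ⟨k, hk⟩ := IsPGroup.iff_card.mp (hP.to_subgroup (centralizer ({u} : Set P)))
      have h3 : 3 ≤ Nat.card (centralizer ({u} : Set P)) := by
        have huC : u ∈ centralizer ({u} : Set P) := mem_centralizer_singleton_iff.mpr rfl
        have hzC : z ∈ centralizer ({u} : Set P) := mem_centralizer_singleton_iff.mpr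
          (mem_center_iff.mp hz.2 u).symm
        rw [Nat.card_eq_fintype_card]
        refine le_trans (le_of_eq ?_) (Finset.card_le_univ
          ({1, ⟨u, huC⟩, ⟨z, hzC⟩} : Finset (centralizer ({u} : Set P))))
        rw [Finset.card_insert_of_notMem (by simp [Subtype.ext_iff, hu1.symm, hz1.symm]),
          Finset.card_insert_of_notMem (by simp [Subtype.ext_iff, huz]), Finset.card_singleton]
      rw [hk] at hCle h3 ⊢
      rcases k with _ | _ | _ | k
      · simp at h3
      · simp at h3
      · rfl
      · simp [pow_succ] at hCle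
        have : 0 < 2 ^ k := Nat.two_pow_pos k
        omega
    rcases Cfsg.Agent.S3224.result hP u hu hC with h | h | h
    · exact Or.inl h
    · exact Or.inr h
    · refine Or.inl ⟨2, klein_of_two_involutions h (z := z) ?_ ?_ hu1 hz1 huz⟩
      · rw [← pow_two, ← hu, pow_orderOf_eq_one]
      · have hzA : Nat.card A = 2 := by
          have := A.index_mul_card
          rw [hidx, h] at this
          omega
        have := pow_card_eq_one' (G := A) (x := ⟨z, hz.1⟩)
        rw [hzA, pow_two, Subtype.ext_iff] at this
        exact this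

end Cfsg.Agent.H66.FixityTwo
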