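import Mathlib

set_option autoImplicit false

namespace Cfsg.Agent.H66

/-- The triangle group (2,3,5) has order at most 60: coset enumeration over `⟨y⟩`. -/
theorem card_triangle235_le {P : Type*} [Group P] (x y : P) (hx : x ^ 3 = 1) (hy : y ^ 5 = 1)
    (hxy : (x * y) ^ 2 = 1) (hgen : Subgroup.closure ({x, y} : Set P) = ⊤) :
    Finite P ∧ Nat.card P ≤ 60 := by
  classical
  have r0 : ∀ c : P ⧸ Subgroup.zpowers y, x • (x • (x • (c))) = c := fun c => by
    simp only [← mul_smul, ← mul_assoc]; rw [show (x * x * x : P) = 1 from ?_, one_smul]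
    rw [← hx]; simp only [pow_succ, pow_zero, one_mul, mul_assoc]
  have r1 : ∀ c : P ⧸ Subgroup.zpowers y, y • (y • (y • (y • (y • (c))))) = c := fun c => by
    simp only [← mul_smul, ← mul_assoc]; rw [show (y * y * y * y * y : P) = 1 from ?_, one_smul]
    rw [← hy]; simp only [pow_succ, pow_zero, one_mul, mul_assoc]
  have r2 : ∀ c : P ⧸ Subgroup.zpowers y, x • (y • (x • (y • (c)))) = c := fun c => by
    simp only [← mul_smul, ← mul_assoc]; rw [show (x * y * x * y : P) = 1 from ?_, one_smul]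
    rw [← hxy]; simp only [pow_succ, pow_zero, one_mul, mul_assoc]
  set c0 : P ⧸ Subgroup.zpowers y := QuotientGroup.mk 1 with hc0
  have hy0 : y • c0 = c0 := by
    rw [hc0, MulAction.Quotient.smul_mk, QuotientGroup.eq]
    simp [Subgroup.mem_zpowers]
  have e0_y : y • c0 = c0 := hy0
  obtain ⟨c1, e0_x⟩ : ∃ c, x • c0 = c := ⟨_, rfl⟩
  obtain ⟨c2, e1_x⟩ : ∃ c, x • c1 = c := ⟨_, rfl⟩
  have e2_x : x • c2 = c0 := by
    have h := r0 c0
    rw [e0_x, e1_x] at h
    exact h
  have e1_y : y • c1 = c2 := by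
    have h := r2 c0
    rw [e0_y, e0_x] at h
    replace h := smul_left_cancel x (h.trans e2_x.symm)
    exact h
  obtain ⟨c3, e2_y⟩ : ∃ c, y • c2 = c := ⟨_, rfl⟩
  obtain ⟨c4, e3_x⟩ : ∃ c, x • c3 = c := ⟨_, rfl⟩
  have e4_y : y • c4 = c1 := by
    have h := r2 c2
    rw [e2_y, e3_x] at h
    replace h := smul_left_cancel x (h.trans e1_x.symm)
    exact h
  obtain ⟨c5, e3_y⟩ : ∃ c, y • c3 = c := ⟨_, rfl⟩
  have e5_y : y • c5 = c4 := by
    have h := r1 c1
    rw [e1_y, e2_y, e3_y] at h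
    replace h := smul_left_cancel y (h.trans e4_y.symm)
    exact h
  obtain ⟨c6, e4_x⟩ : ∃ c, x • c4 = c := ⟨_, rfl⟩
  have e6_x : x • c6 = c3 := by
    have h := r0 c3
    rw [e3_x, e4_x] at h
    exact h
  obtain ⟨c7, e5_x⟩ : ∃ c, x • c5 = c := ⟨_, rfl⟩
  have e7_y : y • c7 = c6 := by
    have h := r2 c3
    rw [e3_y, e5_x] at h
    replace h := smul_left_cancel x (h.trans e6_x.symm)
    exact h
  obtain ⟨c8, e6_y⟩ : ∃ c, y • c6 = c := ⟨_, rfl⟩
  have e8_x : x • c8 = c5 := by
    have h := r2 c5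
    rw [e5_y, e4_x, e6_y] at h
    exact h
  have e7_x : x • c7 = c8 := by
    have h := r0 c5
    rw [e5_x] at h
    replace h := smul_left_cancel x (h.trans e8_x.symm)
    exact h
  obtain ⟨c9, e8_y⟩ : ∃ c, y • c8 = c := ⟨_, rfl⟩
  obtain ⟨c10, e9_x⟩ : ∃ c, x • c9 = c := ⟨_, rfl⟩
  have e10_y : y • c10 = c7 := by
    have h := r2 c8
    rw [e8_y, e9_x] at h
    replace h := smul_left_cancel x (h.trans e7_x.symm)
    exact h
  have e9_y : y • c9 = c10 := by
    have h := r1 c6
    rw [e6_y, e8_y] at h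
    replace h := smul_left_cancel y (h.trans e7_y.symm)
    replace h := smul_left_cancel y (h.trans e10_y.symm)
    exact h
  obtain ⟨c11, e10_x⟩ : ∃ c, x • c10 = c := ⟨_, rfl⟩
  have e11_x : x • c11 = c9 := by
    have h := r0 c9
    rw [e9_x, e10_x] at h
    exact h
  have e11_y : y • c11 = c11 := by
    have h := r2 c9
    rw [e9_y, e10_x] at h
    replace h := smul_left_cancel x (h.trans e11_x.symm)
    exact h
  set S : Set (P ⧸ Subgroup.zpowers y) := {c0, c1, c2, c3, c4, c5, c6, c7, c8, c9, c10, c11} with hS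
  have hfin : S.Finite := by simp [hS]
  have hstep : ∀ g ∈ ({x, y} : Set P), ∀ c ∈ S, g • c ∈ S := by
    rintro g (rfl | rfl) c (rfl | rfl | rfl | rfl | rfl | rfl | rfl | rfl | rfl | rfl | rfl | rfl) <;>
      simp [hS, e0_y, e0_x, e1_x, e2_x, e1_y, e2_y, e3_x, e4_y, e3_y, e5_y, e4_x, e6_x, e5_x, e7_y, e6_y, e8_x, e7_x, e8_y, e9_x, e10_y, e9_y, e10_x, e11_x, e11_y]
  have hall : ∀ p : P, ∀ c ∈ S, p • c ∈ S := by
    intro p
    have hp : p ∈ Subgroup.closure ({x, y} : Set P) := hgen ▸ Subgroup.mem_top p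
    induction hp using Subgroup.closure_induction with
    | mem g hg => exact hstep g hg
    | one => simp
    | mul a b _ _ ha hb => intro c hc; rw [mul_smul]; exact ha _ (hb _ hc)
    | inv a _ ha =>
      intro c hc
      have him : (fun c => a • c) '' S = S :=
        Set.eq_of_subset_of_ncard_le (Set.image_subset_iff.mpr ha)
          (Set.ncard_image_of_injective _ (MulAction.injective a)).ge hfin
      obtain ⟨d, hd, hdc⟩ := him.symm ▸ hc
      rwa [← hdc, inv_smul_smul]
  have huniv : (Set.univ : Set (P ⧸ Subgroup.zpowers y)) ⊆ S := by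
    intro c _
    induction c using QuotientGroup.induction_on with
    | H p =>
      have := hall p c0 (by simp [hS])
      rwa [hc0, MulAction.Quotient.smul_mk, smul_eq_mul, mul_one] at this
  have hfu : Finite (P ⧸ Subgroup.zpowers y) := Set.finite_univ_iff.mp (hfin.subset huniv)
  have hidx : (Subgroup.zpowers y).index ≤ 12 := by
    rw [Subgroup.index_eq_card, ← Set.ncard_univ]
    refine (Set.ncard_le_ncard huniv hfin).trans ?_
    rw [hS]
    repeat (refine (Set.ncard_insert_le _ _).trans (Nat.succ_le_succ ?_))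
    simp
  have hord : orderOf y ∣ 5 := orderOf_dvd_of_pow_eq_one hy
  have hH : Nat.card (Subgroup.zpowers y) ∣ 5 := by rwa [Nat.card_zpowers]
  have hpos : 0 < Nat.card (Subgroup.zpowers y) := Nat.pos_of_dvd_of_pos hH (by norm_num)
  have hmul := (Subgroup.zpowers y).card_mul_index
  have hipos : 0 < (Subgroup.zpowers y).index := Subgroup.index_eq_card (Subgroup.zpowers y) ▸ Nat.card_pos
  refine ⟨Nat.finite_of_card_ne_zero (by rw [← hmul]; positivity), ?_⟩
  rw [← hmul]
  exact Nat.mul_le_mul (Nat.le_of_dvd (by norm_num) hH) hidx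

end Cfsg.Agent.H66
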