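import Mathlib
import Cfsg.Agent.H66.Triangle235

set_option autoImplicit false

namespace Cfsg.Agent.H66

/-- The standard generator of order 3. -/
def x5 : alternatingGroup (Fin 5) :=
  ⟨Equiv.swap 0 3 * Equiv.swap 3 1, Equiv.Perm.mem_alternatingGroup.mpr (by decide)⟩

/-- The standard generator of order 5. -/
def y5 : alternatingGroup (Fin 5) := ⟨finRotate 5, Equiv.Perm.mem_alternatingGroup.mpr (by decide)⟩

theorem x5_pow : x5 ^ 3 = 1 := by decide
theorem y5_pow : y5 ^ 5 = 1 := by decide
theorem x5y5_pow : (x5 * y5) ^ 2 = 1 := by decide

/-- Words exhausting the group. -/
def altFiveWords : List (List Bool) :=
  [[], [true], [false], [true, true], [false, true], [true, false], [false, false], [false, true, true], [true, false, true], [false, false, true], [true, true, false], [true, false, false], [false, false, false], [true, false, true, true], [false, false, true, true], [true, true, false, true], [true, false, false, true], [false, false, false, true], [false, true, true, false], [true, true, false, false], [true, false, false, false], [true, true, false, true, true], [true, false, false, true, true], [false, false, false, true, true], [false, true, true, false, true], [true, true, false, false, true], [true, false, false, false, true], [false, false, true, true, false], [false, true, true, false, false], [false, true, true, false, true, true], [true, true, false, false, true, true], [true, false, false, false, true, true], [false, false, true, true, false,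 true], [false, true, true, false, false, true], [true, false, false, true, true, false], [false, false, false, true, true, false], [false, false, true, true, false, false], [false, false, true, true, false, true, true], [false, true, true, false, false, true, true], [true, false, false, true, true, false, true], [false, false, false, true, true, false, true], [false, false, true, true, false, false, true], [true, true, false, false, true, true, false], [true, false, false, false, true, true, false], [true, false, false, true, true, false, false], [true, false, false, true, true, false, true, true], [false, false, false, true, true, false, true, true], [false, false, true, true, false, false, true, true], [true, true, false, false, true, true, false, true], [true, false, false, false, true, true, false, true], [true, false, false, true, true, false, false, true], [false, true, true, false, false, true, true, false], [true, true, false, false, true, true, false, false], [true, true, false, false, true, true, false, true, true], [true, false, false, false, true, true, false, true, true], [true, false, false, true, true, false, false, true, true], [true, true, false, false, true, true, false, false, true], [false, false, true, true, false, false, true, true, false], [false, true, true, false, false, true, true, false, false], [false, true, true, false, false, true, true, false, false, true]]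

theorem closure_x5_y5 : Subgroup.closure ({x5, y5} : Set (alternatingGroup (Fin 5))) = ⊤ := by
  have h : ∀ g : alternatingGroup (Fin 5),
      g ∈ altFiveWords.map fun w => (w.map fun b => cond b x5 y5).prod := by
    decide +kernel
  rw [eq_top_iff]
  intro g _
  obtain ⟨w, -, rfl⟩ := List.mem_map.mp (h g)
  refine Subgroup.list_prod_mem _ fun z hz => ?_
  obtain ⟨b, -, rfl⟩ := List.mem_map.mp hz
  cases b <;> exact Subgroup.subset_closure (by simp)

end Cfsg.Agent.H66
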