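import Mathlib

/-!
The theorem of Sylvester and Schur: if `1 ≤ k` and `2 * k ≤ m`, some prime larger than `k`
divides `m.choose k`.  For `k ≥ 1024` this is Erdős' comparison of binomial coefficients with
products of small primes; the finitely many remaining cases are covered by a list of primes.
-/

set_option autoImplicit false

open Nat Finset Real

namespace Cfsg.Agent.H66.SylvesterSchur

/-! ### Primality and prime counting, reducible by the kernel -/

/-- Trial division, exact below `5184`. -/
def isPrimeB (n : ℕ) : Bool :=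
  decide (2 ≤ n) && (List.range 72).all fun d => decide (d < 2) || decide (n ≤ d) || decide (n % d ≠ 0)

theorem isPrimeB_complete {p : ℕ} (hp : p.Prime) : isPrimeB p = true := by
  simp only [isPrimeB, Bool.and_eq_true, decide_eq_true_eq, List.all_eq_true, Bool.or_eq_true]
  refine ⟨hp.two_le, fun d _ => ?_⟩
  by_contra h
  push Not at h
  have := (Nat.prime_dvd_prime_iff_eq (p := d) (q := p))
  rcases hp.eq_one_or_self_of_dvd d (Nat.dvd_of_mod_eq_zero h.2) with rfl | rfl <;> omega

theorem isPrimeB_sound {p : ℕ} (hp : p < 5184) (h : isPrimeB p = true) : p.Prime := by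
  simp only [isPrimeB, Bool.and_eq_true, decide_eq_true_eq, List.all_eq_true, Bool.or_eq_true,
    List.mem_range] at h
  rw [Nat.prime_def_le_sqrt]
  refine ⟨h.1, fun d hd2 hd hdvd => ?_⟩
  have hd72 : d < 72 := lt_of_le_of_lt hd (Nat.sqrt_lt.2 (by omega))
  rcases h.2 d hd72 with (h' | h') | h'
  · omega
  · have := Nat.sqrt_lt_self (n := p) (by omega)
    omega
  · exact h' (Nat.mod_eq_zero_of_dvd hdvd)

/-- Number of primes `≤ x`. -/
def piLE (x : ℕ) : ℕ := ((Finset.range (x + 1)).filter Nat.Prime).card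

theorem piLE_le_third (x : ℕ) : piLE x ≤ x / 3 + 2 := by
  have hsub : (Finset.range (x + 1)).filter Nat.Prime ⊆
      {2, 3} ∪ ((Finset.range (x + 1)).filter fun p => Nat.Prime p ∧ 5 ≤ p) := by
    intro p hp
    simp only [Finset.mem_filter, Finset.mem_range] at hp
    by_cases h5 : 5 ≤ p
    · exact Finset.mem_union_right _ (by simp [hp.1, hp.2, h5])
    · refine Finset.mem_union_left _ ?_
      have := hp.2.two_le
      interval_cases p <;> simp_all (config := { decide := true })
  have hinj : ((Finset.range (x + 1)).filter fun p => Nat.Prime p ∧ 5 ≤ p).card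
      ≤ (Finset.Icc 1 (x / 3)).card := by
    have hmod : ∀ {p : ℕ}, Nat.Prime p → 5 ≤ p → p % 6 = 1 ∨ p % 6 = 5 := by
      intro p hp h5
      have h2 : ¬ 2 ∣ p := fun h => by
        have := (Nat.prime_dvd_prime_iff_eq Nat.prime_two hp).1 h; omega
      have h3 : ¬ 3 ∣ p := fun h => by
        have := (Nat.prime_dvd_prime_iff_eq Nat.prime_three hp).1 h; omega
      omega
    refine Finset.card_le_card_of_injOn (fun p => p / 3) ?_ ?_
    · intro p hp
      simp only [Finset.coe_filter, Set.mem_ofPred_eq, Finset.mem_range] at hp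
      simp only [Finset.coe_Icc, Set.mem_Icc]
      omega
    · intro p hp q hq hpq
      simp only [Finset.coe_filter, Set.mem_ofPred_eq] at hp hq
      simp only at hpq
      have := hmod hp.2.1 hp.2.2
      have := hmod hq.2.1 hq.2.2
      omega
  have h2 := (Finset.card_le_card hsub).trans (Finset.card_union_le _ _)
  have h3 : ({2, 3} : Finset ℕ).card = 2 := rfl
  rw [Nat.card_Icc, Nat.add_sub_cancel] at hinj
  unfold piLE
  omega

/-! ### Divisibility -/

theorem dvd_choose {p k m : ℕ} (hp : p.Prime) (hkp : k < p) (h : m % p < k) :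
    p ∣ m.choose k := by
  have h1 : p ∣ m.descFactorial k := by
    rw [Nat.descFactorial_eq_prod_range]
    exact (Nat.dvd_sub_mod m).trans (Finset.dvd_prod_of_mem _ (Finset.mem_range.2 h))
  rw [Nat.descFactorial_eq_factorial_mul_choose] at h1
  rcases hp.dvd_mul.1 h1 with h2 | h2
  · have := (hp.dvd_factorial).1 h2; omega
  · exact h2

/-- All prime divisors of `m.choose k` are at most `k`. -/
def Bad (m k : ℕ) : Prop := ∀ p : ℕ, p.Prime → p ∣ m.choose k → p ≤ k

/-! ### Upper bounds -/

theorem choose_le_pow {m k : ℕ} (hk : 1 ≤ k) (hm : 2 * k ≤ m) (hb : Bad m k) :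
    m.choose k ≤ m ^ piLE k := by
  have h0 : m.choose k ≠ 0 := (Nat.choose_pos (by omega)).ne'
  calc m.choose k = ∏ p ∈ (m.choose k).primeFactors, p ^ (m.choose k).factorization p := by
        rw [← Nat.support_factorization]; exact (Nat.prod_factorization_pow_eq_self h0).symm
    _ ≤ m ^ (m.choose k).primeFactors.card :=
        Finset.prod_le_pow_card _ _ _ fun p _ => Nat.pow_factorization_choose_le (by omega)
    _ ≤ _ := by
        refine Nat.pow_le_pow_right (by omega) (Finset.card_le_card fun p hp => ?_)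
        have hpp := Nat.prime_of_mem_primeFactors hp
        simp [Finset.mem_filter, hpp, hb p hpp (Nat.dvd_of_mem_primeFactors hp)]

theorem choose_le_primorial {m k L : ℕ} (hm1 : 1 ≤ m) (hkm : k ≤ m)
    (hL : ∀ p : ℕ, p.Prime → p ∣ m.choose k → p ≤ L) :
    m.choose k ≤ 4 ^ L * m ^ piLE (Nat.sqrt m) := by
  set N := m.choose k with hN
  have h0 : N ≠ 0 := (Nat.choose_pos hkm).ne'
  rw [show N = ∏ p ∈ N.primeFactors, p ^ N.factorization p by
      rw [← Nat.support_factorization]; exact (Nat.prod_factorization_pow_eq_self h0).symm,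
    ← Finset.prod_filter_mul_prod_filter_not N.primeFactors (fun p => Nat.sqrt m < p)]
  refine Nat.mul_le_mul ?_ ?_
  · refine le_trans ?_ (primorial_le_four_pow L)
    refine le_trans (Finset.prod_le_prod' (g := fun p => p) fun p hp => ?_) ?_
    · simp only [Finset.mem_filter] at hp
      have h1 := (Nat.prime_of_mem_primeFactors hp.1).one_lt
      have h2 : N.factorization p ≤ 1 := Nat.factorization_choose_le_one (Nat.sqrt_lt'.1 hp.2)
      calc p ^ N.factorization p ≤ p ^ 1 := Nat.pow_le_pow_right (by omega) h2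
        _ = p := pow_one p
    · refine Finset.prod_le_prod_of_subset_of_one_le' ?_ ?_
      · intro p hp
        simp only [Finset.mem_filter] at hp
        have hpp := Nat.prime_of_mem_primeFactors hp.1
        simp [hpp, hL p hpp (Nat.dvd_of_mem_primeFactors hp.1)]
      · intro p hp _
        exact (Finset.mem_filter.1 hp).2.one_le
  · refine (Finset.prod_le_pow_card _ _ m fun p _ => Nat.pow_factorization_choose_le (by omega)).trans ?_
    refine Nat.pow_le_pow_right (by omega) (Finset.card_le_card fun p hp => ?_)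
    simp only [Finset.mem_filter, not_lt] at hp
    simp [Nat.prime_of_mem_primeFactors hp.1, hp.2]

/-! ### Lower bounds -/

theorem pow_le_choose_mul {m k : ℕ} (hkm : k ≤ m) : m ^ k ≤ m.choose k * k ^ k := by
  have key : ∀ j ≤ k, m ^ j * k.descFactorial j ≤ m.descFactorial j * k ^ j := by
    intro j hj
    induction j with
    | zero => simp
    | succ j ih =>
      rw [Nat.descFactorial_succ, Nat.descFactorial_succ, pow_succ, pow_succ]
      have h1 : m * (k - j) ≤ (m - j) * k := by
        rw [Nat.mul_sub, Nat.sub_mul]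
        have : j * k ≤ m * j := by rw [mul_comm m j]; exact Nat.mul_le_mul_left _ hkm
        omega
      calc m ^ j * m * ((k - j) * k.descFactorial j)
          = (m * (k - j)) * (m ^ j * k.descFactorial j) := by ring
        _ ≤ ((m - j) * k) * (m.descFactorial j * k ^ j) := Nat.mul_le_mul h1 (ih (by omega))
        _ = _ := by ring
  have h := key k le_rfl
  rw [Nat.descFactorial_self, Nat.descFactorial_eq_factorial_mul_choose] at h
  refine Nat.le_of_mul_le_mul_right ?_ k.factorial_pos
  calc m ^ k * k ! ≤ k ! * m.choose k * k ^ k := h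
    _ = _ := by ring

theorem choose_step {k j : ℕ} (hj : j ≤ k) :
    3 ^ j * (2 * k).choose k ≤ 2 ^ j * (2 * k + j).choose k := by
  induction j with
  | zero => simp
  | succ j ih =>
    have h := Nat.choose_mul_succ_eq (2 * k + j) k
    have e : 2 * k + j + 1 - k = k + j + 1 := by omega
    rw [e] at h
    refine Nat.le_of_mul_le_mul_right ?_ (show 0 < k + j + 1 by omega)
    calc 3 ^ (j + 1) * (2 * k).choose k * (k + j + 1)
        = (3 ^ j * (2 * k).choose k) * (3 * (k + j + 1)) := by ring
      _ ≤ (2 ^ j * (2 * k + j).choose k) * (2 * (2 * k + j + 1)) :=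
          Nat.mul_le_mul (ih (by omega)) (by omega)
      _ = 2 ^ (j + 1) * ((2 * k + j).choose k * (2 * k + j + 1)) := by ring
      _ = _ := by rw [h, show 2 * k + (j + 1) = 2 * k + j + 1 by ring]; ring

/-! ### The range `1024 ≤ k` -/

/-- `(√m / 3 + 3) log m ≤ c m` for `m ≥ a`. -/
theorem sqrt_log_le {m : ℕ} {a r s : ℝ} (ha : 8 ≤ a) (hm : a ≤ m) (hr : Real.log a ≤ r * s)
    (hs : 0 < s) (hsa : s ^ 2 ≤ a) :
    ((Nat.sqrt m : ℝ) / 3 + 3) * Real.log m ≤ r * (1 / 3 + 3 / s) * m := by
  have he : Real.exp 2 ≤ a := by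
    have := Real.exp_one_lt_d9
    have h2 : Real.exp 2 = Real.exp 1 * Real.exp 1 := by rw [← Real.exp_add]; norm_num
    nlinarith [Real.exp_pos 1]
  have hanti := Real.log_div_sqrt_antitoneOn (Set.mem_Ici.2 he) (Set.mem_Ici.2 (he.trans hm)) hm
  simp only at hanti
  have hsq : s ≤ √a := Real.le_sqrt_of_sq_le hsa
  have hla : 0 ≤ Real.log a := Real.log_nonneg (by linarith)
  have hsm : s ≤ √(m : ℝ) := hsq.trans (Real.sqrt_le_sqrt hm)
  have hlm : Real.log m ≤ r * √(m : ℝ) := by
    have h1 : Real.log a / √a ≤ r := by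
      rw [div_le_iff₀ (hs.trans_le hsq)]
      have hr0 : 0 ≤ r := by
        rcases le_or_gt 0 r with h | h
        · exact h
        · nlinarith
      nlinarith
    have h2 := hanti.trans h1
    rwa [div_le_iff₀ (hs.trans_le hsm)] at h2
  have hr0 : 0 ≤ r := by
    rcases le_or_gt 0 r with h | h
    · exact h
    · nlinarith
  have hl0 : 0 ≤ Real.log m := Real.log_nonneg (by linarith)
  have hns : (Nat.sqrt m : ℝ) ≤ √(m : ℝ) := Real.nat_sqrt_le_real_sqrt
  have hmm : √(m : ℝ) * √(m : ℝ) = m := Real.mul_self_sqrt (by positivity)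
  calc ((Nat.sqrt m : ℝ) / 3 + 3) * Real.log m ≤ (√(m : ℝ) / 3 + 3) * (r * √(m : ℝ)) :=
        mul_le_mul (by linarith) hlm hl0 (by positivity)
    _ = r * (m / 3 + 3 * √(m : ℝ)) := by linear_combination (r / 3) * hmm
    _ ≤ r * (m / 3 + 3 * (m / s)) := by
        gcongr
        rw [le_div_iff₀ hs]
        calc √(m : ℝ) * s ≤ √(m : ℝ) * √(m : ℝ) := by gcongr
          _ = m := hmm
    _ = _ := by ring

theorem log_upper {m k L : ℕ} (hm1 : 1 ≤ m) (hkm : k ≤ m)
    (hL : ∀ p : ℕ, p.Prime → p ∣ m.choose k → p ≤ L) :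
    Real.log (m.choose k) ≤ L * Real.log 4 + ((Nat.sqrt m : ℝ) / 3 + 2) * Real.log m := by
  have hN : (0 : ℝ) < (m.choose k : ℕ) := by exact_mod_cast Nat.choose_pos hkm
  have hm0 : (0 : ℝ) < m := by exact_mod_cast hm1
  have h : ((m.choose k : ℕ) : ℝ) ≤ (4 : ℝ) ^ L * (m : ℝ) ^ piLE (Nat.sqrt m) := by
    exact_mod_cast choose_le_primorial hm1 hkm hL
  have h2 := Real.log_le_log hN h
  rw [Real.log_mul (by positivity) (by positivity), Real.log_pow, Real.log_pow] at h2
  have h3 : (piLE (Nat.sqrt m) : ℝ) ≤ (Nat.sqrt m : ℝ) / 3 + 2 := by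
    refine le_trans (b := ((Nat.sqrt m / 3 + 2 : ℕ) : ℝ)) (by exact_mod_cast piLE_le_third _) ?_
    push_cast
    gcongr
    exact (Nat.cast_div_le).trans (by norm_num)
  have hlm : 0 ≤ Real.log m := Real.log_natCast_nonneg m
  nlinarith [mul_le_mul_of_nonneg_right h3 hlm]

theorem log_lower {k j : ℕ} (hk : 1 ≤ k) (hj : j ≤ k) :
    (k : ℝ) * Real.log 4 + j * (Real.log 3 - Real.log 2) ≤
      Real.log ((2 * k + j).choose k) + Real.log (2 * k) := by
  have h : 4 ^ k * 3 ^ j ≤ (2 * k + j).choose k * (2 * k) * 2 ^ j := by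
    calc 4 ^ k * 3 ^ j ≤ (2 * k * k.centralBinom) * 3 ^ j :=
          Nat.mul_le_mul_right _ (Nat.four_pow_le_two_mul_self_mul_centralBinom k hk)
      _ = 2 * k * (3 ^ j * (2 * k).choose k) := by rw [Nat.centralBinom_eq_two_mul_choose]; ring
      _ ≤ 2 * k * (2 ^ j * (2 * k + j).choose k) := Nat.mul_le_mul_left _ (choose_step hj)
      _ = _ := by ring
  have hN : (0 : ℝ) < ((2 * k + j).choose k : ℕ) := by exact_mod_cast Nat.choose_pos (by omega)
  have hk0 : (0 : ℝ) < k := by exact_mod_cast hk
  have h' : (4 : ℝ) ^ k * 3 ^ j ≤ (((2 * k + j).choose k : ℕ) : ℝ) * (2 * k) * 2 ^ j := by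
    exact_mod_cast h
  have h2 := Real.log_le_log (by positivity) h'
  rw [Real.log_mul (by positivity) (by positivity), Real.log_mul (by positivity) (by positivity),
    Real.log_mul (by positivity) (by positivity), Real.log_pow, Real.log_pow, Real.log_pow] at h2
  linarith

theorem log_lower' {k m : ℕ} (hk : 1 ≤ k) (hkm : k ≤ m) :
    (k : ℝ) * (Real.log m - Real.log k) ≤ Real.log (m.choose k) := by
  have hm0 : (0 : ℝ) < m := by exact_mod_cast (show 0 < m by omega)
  have hk0 : (0 : ℝ) < k := by exact_mod_cast hk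
  have hN : (0 : ℝ) < (m.choose k : ℕ) := by exact_mod_cast Nat.choose_pos hkm
  have h : (m : ℝ) ^ k ≤ ((m.choose k : ℕ) : ℝ) * (k : ℝ) ^ k := by exact_mod_cast pow_le_choose_mul hkm
  have h2 := Real.log_le_log (by positivity) h
  rw [Real.log_mul (by positivity) (by positivity), Real.log_pow, Real.log_pow] at h2
  linarith

theorem not_bad_large {m k : ℕ} (hk : 1024 ≤ k) (hm : 2 * k ≤ m) : ¬ Bad m k := by
  intro hb
  have hkR : (1024 : ℝ) ≤ k := by exact_mod_cast hk
  have hl2 := Real.log_two_gt_d9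
  have hl2' := Real.log_two_lt_d9
  have hl3 := Real.log_three_gt_d9
  have hl3' := Real.log_three_lt_d9
  have hl4 : Real.log 4 = 2 * Real.log 2 := by
    rw [show (4 : ℝ) = 2 * 2 by norm_num, Real.log_mul (by norm_num) (by norm_num)]; ring
  have h2048 : Real.log 2048 ≤ (0.168483 : ℝ) * 45.2548 := by
    rw [show (2048 : ℝ) = 2 ^ 11 by norm_num, Real.log_pow]; push_cast; linarith
  have h2k : Real.log (2 * k) ≤ Real.log m := by
    refine Real.log_le_log (by positivity) ?_
    exact_mod_cast hm
  by_cases hc1 : m < 3 * k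
  · obtain ⟨j, rfl⟩ : ∃ j, m = 2 * k + j := ⟨m - 2 * k, by omega⟩
    have hup := log_upper (m := 2 * k + j) (k := k) (L := (2 * k + j) / 3) (by omega) (by omega)
      fun p hp hd => by
        by_contra hlt
        have hpk := hb p hp hd
        have h0 := Nat.factorization_choose_of_lt_three_mul (p := p) (n := 2 * k + j) (k := k)
          (by omega) hpk (by omega) (by omega)
        have := hp.factorization_pos_of_dvd (Nat.choose_pos (by omega)).ne' hd
        omega
    have hlo := log_lower (k := k) (j := j) (by omega) (by omega)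
    have hsq := sqrt_log_le (m := 2 * k + j) (a := 2048) (r := 0.168483) (s := 45.2548)
      (by norm_num) (by exact_mod_cast (show 2048 ≤ 2 * k + j by omega)) h2048 (by norm_num)
      (by norm_num)
    have hL : (((2 * k + j) / 3 : ℕ) : ℝ) ≤ (2 * k + j : ℝ) / 3 := by
      exact (Nat.cast_div_le).trans (by push_cast; rfl)
    have hj : (j : ℝ) ≤ k := by exact_mod_cast (show j ≤ k by omega)
    push_cast at hsq hup h2k
    have hL' := mul_le_mul_of_nonneg_right hL (show 0 ≤ Real.log 4 by linarith)
    rw [hl4] at hup hlo hL'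
    nlinarith
  push Not at hc1
  have hup := log_upper (m := m) (k := k) (L := k) (by omega) (by omega) hb
  rw [hl4] at hup
  by_cases hc2 : m < 9 * k
  · have hlo := log_lower (k := k) (j := k) (by omega) le_rfl
    have hmono : Real.log ((2 * k + k).choose k) ≤ Real.log (m.choose k) := by
      refine Real.log_le_log (by exact_mod_cast Nat.choose_pos (by omega)) ?_
      exact_mod_cast Nat.choose_le_choose k (by omega)
    rw [hl4] at hlo
    by_cases hc3 : m < 6 * k
    · have hsq := sqrt_log_le (m := m) (a := 2048) (r := 0.168483) (s := 45.2548) (by norm_num)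
        (by exact_mod_cast (show 2048 ≤ m by omega)) h2048 (by norm_num) (by norm_num)
      have hm' : (m : ℝ) ≤ 6 * k := by exact_mod_cast hc3.le
      nlinarith
    · have h6144 : Real.log 6144 ≤ (0.1113 : ℝ) * 78.38 := by
        rw [show (6144 : ℝ) = 2 ^ 11 * 3 by norm_num, Real.log_mul (by norm_num) (by norm_num),
          Real.log_pow]
        push_cast; linarith
      have hsq := sqrt_log_le (m := m) (a := 6144) (r := 0.1113) (s := 78.38) (by norm_num)
        (by exact_mod_cast (show 6144 ≤ m by omega)) h6144 (by norm_num) (by norm_num)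
      have hm' : (m : ℝ) ≤ 9 * k := by exact_mod_cast hc2.le
      nlinarith
  push Not at hc2
  have hlo := log_lower' (k := k) (m := m) (by omega) (by omega)
  have hk0 : (0 : ℝ) < k := by linarith
  have hm0 : (0 : ℝ) < m := by exact_mod_cast (show 0 < m by omega)
  have hmk : 2 * Real.log 3 ≤ Real.log m - Real.log k := by
    rw [← Real.log_div hm0.ne' hk0.ne', show (2 : ℝ) * Real.log 3 = Real.log (3 ^ 2) by
      rw [Real.log_pow]; norm_num]
    refine Real.log_le_log (by norm_num) ?_
    rw [le_div_iff₀ hk0]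
    norm_num
    exact_mod_cast hc2
  have hlk0 : 0 ≤ Real.log k := Real.log_natCast_nonneg k
  -- a first bound `log m ≤ 1.52 log k`
  have hA : Real.log m ≤ 1.52 * Real.log k := by
    have hN : (0 : ℝ) < (m.choose k : ℕ) := by exact_mod_cast Nat.choose_pos (by omega)
    have h : ((m.choose k : ℕ) : ℝ) ≤ (m : ℝ) ^ piLE k := by
      exact_mod_cast choose_le_pow (by omega) hm hb
    have h1 := Real.log_le_log hN h
    rw [Real.log_pow] at h1
    have h3 : (piLE k : ℝ) ≤ (k : ℝ) / 3 + 2 := by
      refine le_trans (b := ((k / 3 + 2 : ℕ) : ℝ)) (by exact_mod_cast piLE_le_third _) ?_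
      push_cast
      gcongr
      exact (Nat.cast_div_le).trans (by norm_num)
    have hlm : 0 ≤ Real.log m := Real.log_natCast_nonneg m
    nlinarith [mul_le_mul_of_nonneg_right h3 hlm]
  set t := Real.log k / (k : ℝ) ^ (6 / 25 : ℝ) with ht
  have ht1 : t ≤ 10 * Real.log 2 / 5 := by
    have hexp : Real.exp (6 / 25 : ℝ)⁻¹ ≤ 1024 := by
      have h1 : Real.exp (6 / 25 : ℝ)⁻¹ ≤ Real.exp 5 := Real.exp_le_exp.2 (by norm_num)
      have h5 : Real.exp 5 = Real.exp 1 ^ 5 := by rw [← Real.exp_nat_mul]; norm_num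
      have := pow_le_pow_left₀ (Real.exp_pos 1).le Real.exp_one_lt_d9.le 5
      nlinarith
    have h := Real.log_div_self_rpow_antitoneOn (show (0 : ℝ) < 6 / 25 by norm_num)
      (Set.mem_Ici.2 (by simpa [one_div] using hexp))
      (Set.mem_Ici.2 (by simpa [one_div] using hexp.trans hkR)) hkR
    refine h.trans ?_
    have h5 : (5 : ℝ) ≤ (1024 : ℝ) ^ (6 / 25 : ℝ) := by
      rw [show (1024 : ℝ) = 2 ^ (10 : ℕ) by norm_num, ← Real.rpow_natCast, ← Real.rpow_mul (by norm_num)]
      refine le_of_pow_le_pow_left₀ (n := 5) (by norm_num) (by positivity) ?_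
      rw [← Real.rpow_natCast _ 5, ← Real.rpow_natCast (2 ^ _) 5, ← Real.rpow_mul (by norm_num)]
      norm_num
    have hl : Real.log (1024 : ℝ) = 10 * Real.log 2 := by
      rw [show (1024 : ℝ) = 2 ^ (10 : ℕ) by norm_num, Real.log_pow]; norm_num
    simp only [hl]
    exact div_le_div_of_nonneg_left (by positivity) (by norm_num) h5
  have hp76 : (0 : ℝ) < (k : ℝ) ^ (6 / 25 : ℝ) := Real.rpow_pos_of_pos hk0 _
  have hsqrt : (Nat.sqrt m : ℝ) ≤ (k : ℝ) / (k : ℝ) ^ (6 / 25 : ℝ) := by
    refine Real.nat_sqrt_le_real_sqrt.trans ?_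
    rw [← Real.exp_log (Real.sqrt_pos.2 hm0), ← Real.exp_log (div_pos hk0 hp76), Real.exp_le_exp,
      Real.log_sqrt hm0.le, Real.log_div hk0.ne' hp76.ne', Real.log_rpow hk0]
    linarith
  have hlk : Real.log k ≤ 10 * Real.log 2 / 1024 * k := by
    have he : Real.exp 1 ≤ (1024 : ℝ) := by linarith [Real.exp_one_lt_d9]
    have h := Real.log_div_self_antitoneOn (Set.mem_Ici.2 he) (Set.mem_Ici.2 (he.trans hkR)) hkR
    simp only at h
    rw [div_le_iff₀ hk0, show (1024 : ℝ) = 2 ^ (10 : ℕ) by norm_num, Real.log_pow] at h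
    norm_num at h ⊢
    linarith
  have hlm : 0 ≤ Real.log m := Real.log_natCast_nonneg m
  have hmain : (Nat.sqrt m : ℝ) / 3 * Real.log m ≤ 1.52 / 3 * (k * t) := by
    calc (Nat.sqrt m : ℝ) / 3 * Real.log m
        ≤ (k : ℝ) / (k : ℝ) ^ (6 / 25 : ℝ) / 3 * (1.52 * Real.log k) :=
          mul_le_mul (by linarith) hA hlm (by positivity)
      _ = _ := by rw [ht]; ring
  nlinarith [mul_le_mul_of_nonneg_left ht1 hk0.le, mul_le_mul_of_nonneg_left hmk hk0.le]

/-! ### The range `k < 1024` -/

/-- Primes below `300`. -/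
def smallPrimes : List ℕ := [
  2, 3, 5, 7, 11, 13, 17, 19, 23, 29, 31, 37, 41, 43, 47, 53, 59, 61, 67, 71, 73, 79, 83, 89, 97,
  101, 103, 107, 109, 113, 127, 131, 137, 139, 149, 151, 157, 163, 167, 173, 179, 181, 191, 193,
  197, 199, 211, 223, 227, 229, 233, 239, 241, 251, 257, 263, 269, 271, 277, 281, 283, 293]

/-- Primes below `5000`, descending, with gaps at most `34`. -/
def chainPrimes : List ℕ := [
  4967, 4933, 4903, 4871, 4861, 4831, 4799, 4783, 4751, 4721, 4691, 4657, 4637, 4603, 4583, 4549,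
  4517, 4483, 4451, 4421, 4391, 4357, 4327, 4297, 4271, 4241, 4211, 4177, 4153, 4127, 4093, 4073,
  4049, 4019, 3989, 3967, 3943, 3911, 3877, 3847, 3821, 3793, 3761, 3727, 3697, 3671, 3637, 3607,
  3581, 3547, 3517, 3491, 3457, 3433, 3407, 3373, 3343, 3313, 3299, 3271, 3251, 3217, 3187, 3163,
  3137, 3109, 3079, 3049, 3019, 2999, 2969, 2939, 2909, 2879, 2851, 2819, 2789, 2767, 2741, 2707,
  2677, 2647, 2617, 2591, 2557, 2531, 2503, 2473, 2441, 2411, 2377, 2347, 2333, 2309, 2281, 2251,
  2221, 2203, 2179, 2153, 2129, 2099, 2069, 2039, 2011, 1979, 1949, 1931, 1901, 1867, 1847, 1823,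
  1789, 1759, 1733, 1699, 1667, 1637, 1607, 1579, 1549, 1523, 1489, 1459, 1427, 1399, 1367, 1361,
  1327, 1297, 1277, 1249, 1217, 1187, 1153, 1123, 1091, 1061, 1031, 997, 967, 937, 907, 877, 853,
  821, 787, 757, 727, 701, 673, 641, 607, 577, 547, 521, 487, 457, 431, 397, 367, 337, 307, 277,
  251, 223, 191, 157, 127, 97, 67]

def cover : ℕ → List ℕ → Bool
  | hi, [] => decide (hi ≤ 68)
  | hi, q :: t => isPrimeB q && decide (q < 5000) && decide (hi ≤ q + 34) && cover q t

theorem cover_sound : ∀ (l : List ℕ) (hi m : ℕ), cover hi l = true → 68 ≤ m → m < hi →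
    ∃ q : ℕ, q.Prime ∧ q ≤ m ∧ m < q + 34
  | [], hi, m, h, h68, hlt => by simp [cover] at h; omega
  | q :: t, hi, m, h, h68, hlt => by
    simp only [cover, Bool.and_eq_true, decide_eq_true_eq] at h
    obtain ⟨⟨⟨h1, h2⟩, h3⟩, h4⟩ := h
    rcases le_or_gt q m with hq | hq
    · exact ⟨q, isPrimeB_sound (by omega) h1, hq, by omega⟩
    · exact cover_sound t q m h4 h68 hq

/-- The bound on `m` below which the witnesses are listed. -/
def bnd (k : ℕ) : ℕ := if k < 34 then 300 else 5000

def bndCheck : ℕ → ℕ → ℕ → Bool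
  | 0, _, _ => true
  | fuel + 1, k, c =>
    let c' := if isPrimeB k then c + 1 else c
    decide (k ^ k < bnd k ^ (k - c')) && bndCheck fuel (k + 1) c'

theorem piLE_succ (k : ℕ) : piLE (k + 1) ≤ if isPrimeB (k + 1) then piLE k + 1 else piLE k := by
  unfold piLE
  rw [Finset.range_add_one (n := k + 1), Finset.filter_insert]
  by_cases h : Nat.Prime (k + 1)
  · rw [if_pos h, isPrimeB_complete h, if_pos rfl]; exact Finset.card_insert_le _ _
  · rw [if_neg h]; split_ifs <;> omega

theorem bndCheck_sound : ∀ (fuel k c : ℕ), bndCheck fuel (k + 1) c = true → piLE k ≤ c →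
    ∀ n, k < n → n ≤ k + fuel → n ^ n < bnd n ^ (n - piLE n)
  | 0, k, c, _, _, n, h1, h2 => by omega
  | fuel + 1, k, c, h, hc, n, h1, h2 => by
    simp only [bndCheck, Bool.and_eq_true, decide_eq_true_eq] at h
    have hle : piLE (k + 1) ≤ if isPrimeB (k + 1) then c + 1 else c := by
      have := piLE_succ k; split_ifs at this ⊢ <;> omega
    by_cases hn : n = k + 1
    · subst hn
      refine lt_of_lt_of_le h.1 (Nat.pow_le_pow_right ?_ (by omega))
      unfold bnd; split_ifs <;> norm_num
    · exact bndCheck_sound fuel (k + 1) _ h.2 hle n (by omega) (by omega)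

theorem bnd_ok : bndCheck 1023 1 0 = true := by decide +kernel

theorem chain_ok : cover 5000 chainPrimes = true := by decide +kernel

theorem small_prime_ok : smallPrimes.all (fun p => isPrimeB p && decide (p < 300)) = true := by
  decide +kernel

theorem small_ok : (List.range 34).all (fun k => (List.range 300).all fun m =>
    decide (k = 0) || decide (m < 2 * k) ||
      smallPrimes.any fun p => decide (k < p) && decide (m % p < k)) = true := by
  decide +kernel

theorem not_bad_small {m k : ℕ} (hk : 1 ≤ k) (hk' : k < 1024) (hm : 2 * k ≤ m) : ¬ Bad m k := by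
  intro hb
  have hlt : m < bnd k := by
    by_contra h
    push Not at h
    have h1 := bndCheck_sound 1023 0 0 bnd_ok (by decide) k (by omega) (by omega)
    have hle : piLE k ≤ k := by
      unfold piLE
      calc ((Finset.range (k + 1)).filter Nat.Prime).card ≤ (Finset.Icc 1 k).card := by
            refine Finset.card_le_card fun p hp => ?_
            simp only [Finset.mem_filter, Finset.mem_range] at hp
            simp only [Finset.mem_Icc]
            exact ⟨hp.2.one_le, by omega⟩
        _ = k := by simp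
    have h2 : m ^ k ≤ m ^ piLE k * k ^ k := (pow_le_choose_mul (by omega)).trans
      (Nat.mul_le_mul_right _ (choose_le_pow hk hm hb))
    have h3 : m ^ piLE k * m ^ (k - piLE k) ≤ m ^ piLE k * k ^ k := by
      rw [← pow_add]; rwa [Nat.add_sub_cancel' hle]
    have h4 := Nat.le_of_mul_le_mul_left h3 (pow_pos (by omega) _)
    have h5 : bnd k ^ (k - piLE k) ≤ m ^ (k - piLE k) := Nat.pow_le_pow_left h _
    omega
  unfold bnd at hlt
  split_ifs at hlt with h34
  · have h := small_ok
    simp only [List.all_eq_true, List.mem_range, Bool.or_eq_true, decide_eq_true_eq,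
      List.any_eq_true, Bool.and_eq_true] at h
    rcases h k h34 m hlt with (h' | h') | ⟨p, hpm, hkp, hmod⟩
    · omega
    · omega
    · have hsp := small_prime_ok
      simp only [List.all_eq_true, Bool.and_eq_true, decide_eq_true_eq] at hsp
      have hp := isPrimeB_sound (by have := (hsp p hpm).2; omega) (hsp p hpm).1
      have := hb p hp (dvd_choose hp hkp hmod)
      omega
  · obtain ⟨q, hq, hqm, hmq⟩ := cover_sound _ 5000 m chain_ok (by omega) hlt
    have hmod : m % q < k := by
      have : m % q = m - q := by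
        rw [Nat.mod_eq_sub_mod hqm]; exact Nat.mod_eq_of_lt (by omega)
      omega
    have := hb q hq (dvd_choose hq (by omega) hmod)
    omega

/-- **Sylvester–Schur**: for `1 ≤ k` and `2 * k ≤ m`, some prime larger than `k` divides
`m.choose k`. -/
theorem exists_prime_gt_dvd_choose {m k : ℕ} (hk : 1 ≤ k) (hm : 2 * k ≤ m) :
    ∃ p : ℕ, p.Prime ∧ k < p ∧ p ∣ m.choose k := by
  by_contra h
  push Not at h
  have hb : Bad m k := fun p hp hd => not_lt.1 fun hlt => h p hp hlt hd
  rcases lt_or_ge k 1024 with hk' | hk'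
  · exact not_bad_small hk hk' hm hb
  · exact not_bad_large hk' hm hb

end Cfsg.Agent.H66.SylvesterSchur
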