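import Mathlib
import Cfsg.Agent.H66.SylvesterSchur
import Cfsg.Agent.H76.PrimeCycle

/-!
Derangements of prime order in actions of alternating groups: facts about a point stabiliser
`K ≤ alternatingGroup α` and the largest prime dividing its index.
-/

set_option autoImplicit false

open Equiv Equiv.Perm MulAction
open scoped Pointwise

namespace Cfsg.Agent.H66.AltDerangement

/-- An element of prime power order is conjugate into every subgroup of index prime to `p`. -/
theorem exists_conj_mem {A : Type*} [Group A] [Finite A] {K : Subgroup A} {p n : ℕ} [hp : Fact p.Prime]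
    {x : A} (hx : orderOf x = p ^ n) (hK : ¬ p ∣ K.index) : ∃ g : A, g * x * g⁻¹ ∈ K := by
  have hP : IsPGroup p (Subgroup.zpowers x) := IsPGroup.of_card (n := n) (by rw [Nat.card_zpowers, hx])
  obtain ⟨c, hc⟩ := hP.nonempty_fixed_point_of_prime_not_dvd_card (A ⧸ K) hK
  obtain ⟨g, rfl⟩ := Quotient.exists_rep c
  refine ⟨g⁻¹, ?_⟩
  have h : x • (QuotientGroup.mk g : A ⧸ K) = QuotientGroup.mk g :=
    hc ⟨x, Subgroup.mem_zpowers x⟩
  rw [MulAction.Quotient.smul_mk, QuotientGroup.eq, smul_eq_mul, mul_inv_rev] at h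
  simpa [mul_assoc] using K.inv_mem h

theorem not_sq_dvd_factorial {p m : ℕ} (hp : p.Prime) (h : m < 2 * p) : ¬ p ^ 2 ∣ m.factorial := by
  intro hd
  have h1 := (hp.pow_dvd_iff_le_factorization (Nat.factorial_ne_zero m)).1 hd
  have hlog : Nat.log p m < 2 := by
    rcases Nat.eq_zero_or_pos m with rfl | hm
    · simp
    refine Nat.log_lt_of_lt_pow hm.ne' ?_
    have := hp.two_le
    calc m < 2 * p := h
      _ ≤ p * p := Nat.mul_le_mul_right _ this
      _ = p ^ 2 := (sq p).symm
  rw [Nat.factorization_factorial hp hlog, show Finset.Ico 1 2 = {1} by decide, Finset.sum_singleton,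
    pow_one] at h1
  have := (Nat.div_lt_iff_lt_mul hp.pos).2 h
  omega

section

variable {α : Type*} [Fintype α] [DecidableEq α]

/-- If `r` is more than half of the degree and divides the index, every element of order `r` works. -/
theorem exists_of_large [Nontrivial α] {K : Subgroup (alternatingGroup α)} {r : ℕ} (hr : r.Prime)
    (hrd : r ∣ K.index) (h2r : Fintype.card α < 2 * r) :
    ∃ x : alternatingGroup α, orderOf x = r ∧ ∀ g : alternatingGroup α, g * x * g⁻¹ ∉ K := by
  have := Fact.mk hr
  have hcard := K.index_mul_card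
  obtain ⟨x, hx⟩ := exists_prime_orderOf_dvd_card' (G := alternatingGroup α) r
    (hrd.trans K.index_dvd_card)
  refine ⟨x, hx, fun g hg => ?_⟩
  have hrK : r ∣ Nat.card K := by
    have hox : orderOf (⟨g * x * g⁻¹, hg⟩ : K) = r := by
      rw [← Subgroup.orderOf_coe]; show orderOf (g * x * g⁻¹) = r
      rw [← MulAut.conj_apply, MulEquiv.orderOf_eq, hx]
    exact hox ▸ _root_.orderOf_dvd_natCard _
  apply not_sq_dvd_factorial hr h2r
  have h := two_mul_card_alternatingGroup (α := α)
  rw [Fintype.card_perm] at h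
  rw [sq, ← h, ← Nat.card_eq_fintype_card, ← hcard]
  exact (Nat.mul_dvd_mul hrd hrK).trans (dvd_mul_left _ _)

/-- An element of prime order with as few fixed points as possible, in the alternating group. -/
theorem exists_many_cycles {r : ℕ} (hr : r.Prime) (h2r : r ≤ Fintype.card α)
    (heven : r = 2 → 4 ∣ Fintype.card α) :
    ∃ x : alternatingGroup α, orderOf x = r ∧
      (x : Perm α).support.card = r * (Fintype.card α / r) := by
  set q := Fintype.card α / r with hq
  have hq1 : 1 ≤ q := (Nat.one_le_div_iff hr.pos).2 h2r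
  obtain ⟨g, hg⟩ := (Perm.exists_with_cycleType_iff α (m := Multiset.replicate q r)).2
    ⟨by simpa [hq] using Nat.div_mul_le_self (Fintype.card α) r,
      fun a ha => (Multiset.eq_of_mem_replicate ha) ▸ hr.two_le⟩
  have hsum : g.support.card = r * q := by rw [← sum_cycleType, hg]; simp [mul_comm]
  have hsign : sign g = 1 := by
    rw [sign_of_cycleType, hg]
    simp only [Multiset.sum_replicate, smul_eq_mul, Multiset.card_replicate]
    refine Even.neg_one_pow ?_
    rcases hr.eq_two_or_odd' with rfl | hodd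
    · obtain ⟨c, hc⟩ := heven rfl
      refine ⟨3 * c, ?_⟩
      rw [hq, hc]; omega
    · obtain ⟨c, hc⟩ := hodd
      refine ⟨q * (c + 1), ?_⟩
      rw [hc]; ring
  refine ⟨⟨g, hsign⟩, ?_, hsum⟩
  rw [← Subgroup.orderOf_coe]
  show orderOf g = r
  rw [← lcm_cycleType, hg]
  obtain ⟨q', hq'⟩ : ∃ q', q = q' + 1 := ⟨q - 1, by omega⟩
  rw [hq']
  clear hg hsum hsign hq hq1 hq'
  induction q' with
  | zero => simp
  | succ n ih => rw [Multiset.replicate_succ, Multiset.lcm_cons, ih]; simp

/-- An invariant set smaller than `r` consists of fixed points of an element of order `r`. -/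
theorem card_le_of_invariant {y : Perm α} {r : ℕ} (hr : r.Prime) (hy : orderOf y = r) {D : Finset α}
    (hD : D.card < r) (hinv : ∀ z ∈ D, y z ∈ D) : D.card ≤ Fintype.card α - y.support.card := by
  rw [← Finset.card_compl]
  refine Finset.card_le_card fun z hz => ?_
  rw [Finset.mem_compl, mem_support, not_not]
  by_contra hne
  have hmem : ∀ i : ℕ, (y ^ i) z ∈ D := by
    intro i
    induction i with
    | zero => simpa using hz
    | succ i ih => rw [pow_succ', mul_apply]; exact hinv _ ih
  have hinj := Cfsg.Agent.H76.pow_apply_injOn hr hy hne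
  have h := Finset.card_le_card (s := (Finset.range r).image fun i => (y ^ i) z) (t := D)
    (fun w hw => by obtain ⟨i, -, rfl⟩ := Finset.mem_image.1 hw; exact hmem i)
  rw [Finset.card_image_of_injOn (by simpa using hinj), Finset.card_range] at h
  omega

theorem exists_even_map {D E : Finset α} (hDE : D.card = E.card) (hc : D.card + 2 ≤ Fintype.card α) :
    ∃ g : alternatingGroup α, ∀ z, z ∈ D ↔ (g : Perm α) z ∈ E := by
  classical
  let e : {z // z ∈ D} ≃ {z // z ∈ E} := D.equivOfCardEq hDE
  let p : Perm α := e.extendSubtype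
  have hp : ∀ z, z ∈ D ↔ p z ∈ E := fun z =>
    ⟨fun h => e.extendSubtype_mem z h, fun h => by_contra fun hn => e.extendSubtype_not_mem z hn h⟩
  rcases Int.units_eq_one_or (sign p) with h | h
  · exact ⟨⟨p, h⟩, hp⟩
  · obtain ⟨a, ha, b, hb, hab⟩ := Finset.one_lt_card.1 (show 1 < Dᶜ.card by rw [Finset.card_compl]; omega)
    rw [Finset.mem_compl] at ha hb
    refine ⟨⟨p * swap a b, ?_⟩, fun z => ?_⟩
    · simp [mem_alternatingGroup, h, sign_swap hab]
    · show z ∈ D ↔ p (swap a b z) ∈ E
      rw [← hp]
      rcases eq_or_ne z a with rfl | hza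
      · simp [ha, hb]
      rcases eq_or_ne z b with rfl | hzb
      · simp [ha, hb]
      rw [swap_apply_of_ne_of_ne hza hzb]

theorem index_set_stabilizer {D : Finset α} (hc : D.card + 2 ≤ Fintype.card α)
    {K : Subgroup (alternatingGroup α)} (hK : ∀ g, g ∈ K ↔ ∀ z, z ∈ D ↔ (g : Perm α) z ∈ D) :
    K.index = (Fintype.card α).choose D.card := by
  classical
  let f : alternatingGroup α → {E : Finset α // E.card = D.card} := fun g =>
    ⟨D.map (g : Perm α).toEmbedding, Finset.card_map _⟩
  have hf : ∀ g h, f g = f h ↔ g⁻¹ * h ∈ K := by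
    intro g h
    rw [hK]
    simp only [f, Subtype.mk.injEq, Finset.ext_iff, Finset.mem_map_equiv, Subgroup.coe_mul,
      Subgroup.coe_inv, mul_apply]
    constructor
    · intro H z
      have := H ((h : Perm α) z)
      simpa [Perm.inv_def] using this.symm
    · intro H z
      have := H ((h : Perm α).symm z)
      simpa [Perm.inv_def] using this.symm
  let F : alternatingGroup α ⧸ K → {E : Finset α // E.card = D.card} :=
    Quotient.lift f fun g h hgh => (hf g h).2 (QuotientGroup.leftRel_apply.1 hgh)
  have hF : Function.Bijective F := by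
    refine ⟨fun a b => Quotient.inductionOn₂ a b fun g h hgh => QuotientGroup.eq.2 ((hf g h).1 hgh), ?_⟩
    rintro ⟨E, hE⟩
    obtain ⟨g, hg⟩ := exists_even_map hE.symm hc
    refine ⟨QuotientGroup.mk g, Subtype.ext (Finset.eq_of_subset_of_card_le ?_ (by simp [F, f, hE]; ))⟩
    intro z hz
    obtain ⟨w, hw, rfl⟩ := Finset.mem_map.1 hz
    exact (hg w).1 hw
  rw [Subgroup.index, Nat.card_eq_of_bijective F hF, Nat.card_eq_fintype_card,
    Fintype.card_finset_len]

/-- The intransitive case. -/
theorem exists_of_set_stabilizer {D : Finset α} (hD : 1 ≤ D.card) (hD2 : 2 * D.card ≤ Fintype.card α)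
    (h5 : 5 ≤ Fintype.card α)
    {K : Subgroup (alternatingGroup α)} (hK : ∀ g, g ∈ K ↔ ∀ z, z ∈ D ↔ (g : Perm α) z ∈ D) {r : ℕ}
    (hr : r.Prime) (hrd : r ∣ K.index) (hmax : ∀ s : ℕ, s.Prime → s ∣ K.index → s ≤ r) :
    ∃ x : alternatingGroup α, orderOf x = r ∧ ∀ g : alternatingGroup α, g * x * g⁻¹ ∉ K := by
  have hidx := index_set_stabilizer (by omega) hK
  rw [hidx] at hrd hmax
  set m := Fintype.card α with hm
  set k := D.card with hk
  obtain ⟨p, hp, hkp, hpd⟩ := SylvesterSchur.exists_prime_gt_dvd_choose hD hD2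
  have hkr : k < r := hkp.trans_le (hmax p hp hpd)
  have hmod : m % r < k := by
    have h1 : r ∣ m.descFactorial k := by
      rw [Nat.descFactorial_eq_factorial_mul_choose]; exact dvd_mul_of_dvd_right hrd _
    rw [Nat.descFactorial_eq_prod_range] at h1
    obtain ⟨i, hi, hri⟩ := (Prime.dvd_finsetProd_iff hr.prime _).1 h1
    rw [Finset.mem_range] at hi
    obtain ⟨c, hc⟩ := hri
    have : m = r * c + i := by omega
    rw [this, Nat.mul_add_mod, Nat.mod_eq_of_lt (by omega)]
    exact hi
  have hrm : r ≤ m := by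
    by_contra h
    rw [Nat.mod_eq_of_lt (by omega)] at hmod
    omega
  have heven : r = 2 → 4 ∣ m := by
    rintro rfl
    have hk1 : k = 1 := by omega
    rw [hk1] at hmax
    simp only [Nat.choose_one_right] at hmax
    have hm0 : 0 < m := by omega
    have hdiv : ∀ {q : ℕ}, q.Prime → q ∣ m → q = 2 := fun hq hqd =>
      le_antisymm (hmax _ hq hqd) hq.two_le
    obtain ⟨e, he⟩ : ∃ e, m = 2 ^ e := ⟨_, Nat.eq_prime_pow_of_unique_prime_dvd hm0.ne' hdiv⟩
    have he2 : 2 ≤ e := by
      by_contra h
      interval_cases e <;> omega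
    exact he ▸ pow_dvd_pow 2 he2
  obtain ⟨x, hx, hsupp⟩ := exists_many_cycles (α := α) hr hrm heven
  refine ⟨x, hx, fun g hg => ?_⟩
  have hy : orderOf ((g * x * g⁻¹ : alternatingGroup α) : Perm α) = r := by
    rw [Subgroup.orderOf_coe, ← MulAut.conj_apply, MulEquiv.orderOf_eq, hx]
  have h := card_le_of_invariant hr hy (hk ▸ hkr) (fun z hz => ((hK _).1 hg z).1 hz)
  rw [Subgroup.coe_mul, Subgroup.coe_mul, Subgroup.coe_inv, card_support_conj, hsupp, ← hm, ← hk] at h
  have := Nat.div_add_mod m r
  omega

/-- A transitive group containing a cycle of prime length above half the degree is primitive. -/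
theorem isPreprimitive_of_cycle {H : Subgroup (Perm α)} [IsPretransitive H α] {g : Perm α} {p : ℕ}
    (hp : p.Prime) (hg : orderOf g = p) (hgH : g ∈ H) (h2p : Fintype.card α < 2 * p) :
    IsPreprimitive H α := by
  refine ⟨fun {B} hB => ?_⟩
  by_contra hnt
  rw [IsTrivialBlock, not_or] at hnt
  obtain ⟨hsub, huniv⟩ := hnt
  rw [Set.not_subsingleton_iff] at hsub
  have hne : B.Nonempty := hsub.nonempty
  have hmul := hB.ncard_block_mul_ncard_orbit_eq hne
  rw [Nat.card_eq_fintype_card] at hmul
  have ha2 : 2 ≤ B.ncard := Set.one_lt_ncard_iff_nontrivial.2 hsub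
  have hb2 : 2 ≤ (orbit H B).ncard := by
    by_contra h
    have hb1 : 0 < (orbit H B).ncard := Set.ncard_pos (Set.toFinite _) |>.2 ⟨B, mem_orbit_self B⟩
    have : (orbit H B).ncard = 1 := by omega
    rw [this, mul_one] at hmul
    exact huniv (Set.eq_of_subset_of_ncard_le (Set.subset_univ _)
      (by rw [Set.ncard_univ, Nat.card_eq_fintype_card, hmul]) (Set.toFinite _))
  have hcyc : g.IsCycle := isCycle_of_prime_order' (hg ▸ hp) (hg ▸ h2p)
  have hsupp : g.support.card = p := by rw [← hcyc.orderOf, hg]
  obtain ⟨b, hb⟩ := hne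
  have hpre : ∀ y : α, ∃ h : H, y ∈ h • B := fun y => by
    obtain ⟨h, rfl⟩ := exists_smul_eq H b y
    exact ⟨h, Set.smul_mem_smul_set hb⟩
  choose f hf using hpre
  obtain ⟨y, hy, z, hz, hyz, hfyz⟩ : ∃ y ∈ g.support, ∃ z ∈ g.support, y ≠ z ∧ f y • B = f z • B := by
    by_contra hcon
    push Not at hcon
    have h := Finset.card_le_card_of_injOn (fun y => f y • B) (s := g.support)
      (t := (orbit H B).toFinite.toFinset)
      (fun y _ => by simp [MulAction.mem_orbit])
      (fun y hy z hz h => by_contra fun hne => hcon y hy z hz hne h)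
    rw [← Set.ncard_eq_toFinset_card, hsupp] at h
    nlinarith
  set C := f y • B with hC
  have hzC : z ∈ C := hfyz ▸ hf z
  have hyC : y ∈ C := hf y
  have hCB : IsBlock H C := hB.translate _
  obtain ⟨i, rfl⟩ := hcyc.exists_pow_eq (mem_support.1 hy) (mem_support.1 hz)
  let gH : H := ⟨g, hgH⟩
  have hfix : gH ^ i • C = C := by
    refine (isBlock_iff_smul_eq_of_nonempty.1 hCB) (g := gH ^ i) ⟨(g ^ i) y, ?_, hzC⟩
    exact ⟨y, hyC, rfl⟩
  have hndvd : ¬ p ∣ i := fun h => hyz (by
    obtain ⟨c, rfl⟩ := h
    rw [pow_mul, ← hg, pow_orderOf_eq_one, one_pow, one_apply])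
  have hgfix : gH • C = C := by
    have hog : orderOf gH = p := by rw [← Subgroup.orderOf_coe]; exact hg
    obtain ⟨j, hj⟩ := exists_pow_eq_self_of_coprime (x := gH) (n := i)
      (by rw [hog]; exact ((hp.coprime_iff_not_dvd).2 hndvd).symm)
    have hall : ∀ j : ℕ, (gH ^ i) ^ j • C = C := by
      intro j
      induction j with
      | zero => simp
      | succ j ih => rw [pow_succ, mul_smul, hfix, ih]
    have := hall j
    rwa [hj] at this
  have hsub' : (g.support : Set α) ⊆ C := by
    intro w hw
    obtain ⟨n, rfl⟩ := hcyc.exists_pow_eq (mem_support.1 hy) (mem_support.1 (Finset.mem_coe.1 hw))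
    clear hw
    induction n with
    | zero => simpa using hyC
    | succ n ih =>
      rw [← hgfix, pow_succ', mul_apply]
      exact ⟨_, ih, rfl⟩
  have h := Set.ncard_le_ncard hsub' (Set.toFinite _)
  rw [Set.ncard_coe_finset, hsupp, hC, Set.ncard_smul_set] at h
  nlinarith

end

theorem exists_cycleType_mem_alternatingGroup {α : Type*} [Fintype α] [DecidableEq α]
    (c : Multiset ℕ) (h2 : ∀ a ∈ c, 2 ≤ a) (hsum : c.sum ≤ Fintype.card α)
    (hev : Even (c.sum + Multiset.card c)) :
    ∃ x : alternatingGroup α, (x : Perm α).cycleType = c := by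
  obtain ⟨g, hg⟩ := (Perm.exists_with_cycleType_iff α).2 ⟨hsum, h2⟩
  exact ⟨⟨g, by rw [mem_alternatingGroup, sign_of_cycleType, hg, hev.neg_one_pow]⟩, hg⟩

/-- A point stabiliser whose image normaliser in `Perm α` is primitive. -/
theorem exists_of_primitive {α : Type*} [Fintype α] [DecidableEq α] (h5 : 5 ≤ Fintype.card α)
    {H : Subgroup (Perm α)} (hH : IsPreprimitive H α) (hnA : ¬ alternatingGroup α ≤ H)
    {K : Subgroup (alternatingGroup α)} (hKH : ∀ g ∈ K, (g : Perm α) ∈ H) {r : ℕ}
    (hr : r.Prime) (hmax : ∀ s : ℕ, s.Prime → s ∣ K.index → s ≤ r)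
    (h2r : 2 * r ≤ Fintype.card α) :
    ∃ x : alternatingGroup α, orderOf x = r ∧ ∀ g : alternatingGroup α, g * x * g⁻¹ ∉ K := by
  rcases hr.eq_two_or_odd' with rfl | hodd
  · exfalso
    have : Fact (Nat.Prime 3) := ⟨Nat.prime_three⟩
    obtain ⟨t, ht⟩ := exists_cycleType_mem_alternatingGroup (α := α) {3} (by simp) (by simp; omega)
      (by decide)
    have h3 : orderOf t = 3 := by
      rw [← Subgroup.orderOf_coe, ← lcm_cycleType, ht]; simp
    obtain ⟨g, hg⟩ := exists_conj_mem (K := K) (p := 3) (n := 1) (x := t) (by simpa using h3)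
      (fun h => by have := hmax 3 Nat.prime_three h; omega)
    refine hnA (alternatingGroup_le_of_isPreprimitive_of_isThreeCycle_mem hH ?_ (hKH _ hg))
    rw [Subgroup.coe_mul, Subgroup.coe_mul, Subgroup.coe_inv, IsThreeCycle, cycleType_conj, ht]
  · have hr3 : 3 ≤ r := by
      have := hr.two_le
      obtain ⟨c, hc⟩ := hodd
      omega
    obtain ⟨x, hx⟩ := exists_cycleType_mem_alternatingGroup (α := α) {r}
      (by simp; omega) (by simp; omega)
      (by obtain ⟨c, hc⟩ := hodd; exact ⟨c + 1, by simp; omega⟩)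
    have hxo : orderOf x = r := by
      rw [← Subgroup.orderOf_coe, ← lcm_cycleType, hx]; simp
    refine ⟨x, hxo, fun g hg => hnA ?_⟩
    have hct : (((g * x * g⁻¹ : alternatingGroup α)) : Perm α).cycleType = {r} := by
      rw [Subgroup.coe_mul, Subgroup.coe_mul, Subgroup.coe_inv, cycleType_conj, hx]
    have hsupp : ((g * x * g⁻¹ : alternatingGroup α) : Perm α).support.card = r := by
      rw [← sum_cycleType, hct, Multiset.sum_singleton]
    exact Cfsg.Agent.H76.alternatingGroup_le_of_cycle hH
      (card_cycleType_eq_one.1 (by rw [hct]; simp)) (hsupp ▸ hr) (hKH _ hg) (by omega)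

/-- Degree six, where the normaliser need not act on the six points. -/
theorem exists_of_six {α : Type*} [Fintype α] [DecidableEq α] (h6 : Fintype.card α = 6)
    {K : Subgroup (alternatingGroup α)} (hK : K ≠ ⊤) {r : ℕ}
    (hr : r.Prime) (hrd : r ∣ K.index) (hmax : ∀ s : ℕ, s.Prime → s ∣ K.index → s ≤ r) :
    ∃ x : alternatingGroup α, orderOf x = r ∧ ∀ g : alternatingGroup α, g * x * g⁻¹ ∉ K := by
  have : Nontrivial α := Fintype.one_lt_card_iff_nontrivial.1 (by omega)
  by_cases h2r : Fintype.card α < 2 * r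
  · exact exists_of_large hr hrd h2r
  have hcardA : Nat.card (alternatingGroup α) = 360 := by
    have h := two_mul_card_alternatingGroup (α := α)
    rw [Fintype.card_perm, h6, show Nat.factorial 6 = 720 from rfl] at h
    rw [Nat.card_eq_fintype_card]
    omega
  have hprod := K.index_mul_card
  rw [hcardA] at hprod
  have : Fact (Nat.Prime 3) := ⟨Nat.prime_three⟩
  have hr23 : r = 2 ∨ r = 3 := by
    have := hr.two_le
    have : r ≤ 3 := by omega
    omega
  rcases hr23 with rfl | rfl
  · exfalso
    have : Fact (Nat.Prime 5) := ⟨by norm_num⟩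
    have h3 : ¬ 3 ∣ K.index := fun h => by have := hmax 3 Nat.prime_three h; omega
    have h5 : ¬ 5 ∣ K.index := fun h => by have := hmax 5 (by norm_num) h; omega
    have hle8 : K.index ∣ 8 := by
      have hd : K.index ∣ 8 * 45 := ⟨Nat.card K, by omega⟩
      refine (Nat.Coprime.dvd_of_dvd_mul_right ?_ hd)
      rw [show (45 : ℕ) = 3 * 3 * 5 from rfl]
      have c3 : Nat.Coprime K.index 3 := ((Nat.prime_three.coprime_iff_not_dvd).2 h3).symm
      have c5 : Nat.Coprime K.index 5 := ((Nat.Prime.coprime_iff_not_dvd (by norm_num)).2 h5).symm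
      exact Nat.Coprime.mul_right (Nat.Coprime.mul_right c3 c3) c5
    have : IsSimpleGroup (alternatingGroup α) :=
      alternatingGroup.isSimpleGroup (by rw [Nat.card_eq_fintype_card]; omega)
    have hidx1 : K.index ≠ 1 := fun h => hK (Subgroup.index_eq_one.1 h)
    have hcore : K.normalCore = ⊥ := (K.normalCore_normal.eq_bot_or_eq_top).resolve_right
      fun h => hK (eq_top_iff.2 (h ▸ K.normalCore_le))
    have hfact : 360 ∣ (K.index).factorial := by
      rw [← hcardA]
      have hker := Subgroup.normalCore_eq_ker K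
      rw [hcore] at hker
      have hinj := (MonoidHom.ker_eq_bot_iff _).1 hker.symm
      have h := Subgroup.card_dvd_of_injective _ hinj
      rwa [Nat.card_perm] at h
    have hidx : K.index = 8 := by
      rcases (Nat.dvd_prime_pow Nat.prime_two).1 (show K.index ∣ 2 ^ 3 from hle8) with ⟨e, he, he'⟩
      rw [he'] at hfact hidx1 ⊢
      interval_cases e <;> simp_all (config := { decide := true })
    have hK45 : Nat.card K = 45 := by rw [hidx] at hprod; omega
    obtain ⟨x, hx⟩ := exists_prime_orderOf_dvd_card' (G := K) 5 (by rw [hK45]; norm_num)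
    have hxo : orderOf ((x : alternatingGroup α) : Perm α) = 5 := by
      rw [Subgroup.orderOf_coe, Subgroup.orderOf_coe, hx]
    have hcyc : ((x : alternatingGroup α) : Perm α).IsCycle :=
      isCycle_of_prime_order' (hxo ▸ by norm_num) (by omega)
    have hsupp : ((x : alternatingGroup α) : Perm α).support.card = 5 := by
      rw [← hcyc.orderOf, hxo]
    obtain ⟨z, hz⟩ := Finset.card_eq_one.1
      (show (((x : alternatingGroup α) : Perm α).supportᶜ).card = 1 by
        rw [Finset.card_compl]; omega)
    have horb : ∀ k : K, ((k : alternatingGroup α) : Perm α) z = z := by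
      by_contra hcon
      push Not at hcon
      obtain ⟨k, hk⟩ := hcon
      have hks : ((k : alternatingGroup α) : Perm α) z ∈ ((x : alternatingGroup α) : Perm α).support := by
        by_contra h
        rw [← Finset.mem_compl, hz, Finset.mem_singleton] at h
        exact hk h
      have hall : ∀ w, w ∈ MulAction.orbit K z := by
        intro w
        by_cases hw : w ∈ ((x : alternatingGroup α) : Perm α).support
        · obtain ⟨n, hn⟩ := hcyc.exists_pow_eq (mem_support.1 hks) (mem_support.1 hw)
          exact ⟨x ^ n * k, by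
            show ((((x ^ n * k : K) : alternatingGroup α)) : Perm α) z = w
            rw [Subgroup.coe_mul, Subgroup.coe_mul, Subgroup.coe_pow, Subgroup.coe_pow, mul_apply, hn]⟩
        · rw [← Finset.mem_compl, hz, Finset.mem_singleton] at hw
          rw [hw]; exact mem_orbit_self z
      have hd := Subgroup.index_dvd_card (MulAction.stabilizer K z)
      rw [MulAction.index_stabilizer, Set.eq_univ_of_forall hall, Set.ncard_univ,
        Nat.card_eq_fintype_card, h6, hK45] at hd
      norm_num at hd
    have hd : Nat.card K ∣ Nat.card (MulAction.stabilizer (Perm α) z) := by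
      refine Subgroup.card_dvd_of_injective
        (((alternatingGroup α).subtype.comp K.subtype).codRestrict _ fun k => horb k) ?_
      intro a b h
      have h' := congrArg Subtype.val h
      exact Subtype.ext (Subtype.ext h')
    have hst : Nat.card (MulAction.stabilizer (Perm α) z) = 120 := by
      have h := Subgroup.index_mul_card (MulAction.stabilizer (Perm α) z)
      rw [MulAction.index_stabilizer_of_transitive, Nat.card_perm, Nat.card_eq_fintype_card, h6,
        show Nat.factorial 6 = 720 from rfl] at h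
      omega
    rw [hK45, hst] at hd
    norm_num at hd
  · by_contra hcon
    push Not at hcon
    obtain ⟨x, hx⟩ := exists_cycleType_mem_alternatingGroup (α := α) {3} (by simp) (by simp; omega)
      (by decide)
    obtain ⟨y, hy⟩ := exists_cycleType_mem_alternatingGroup (α := α) {3, 3} (by simp) (by simp; omega)
      (by decide)
    have hox : orderOf x = 3 := by rw [← Subgroup.orderOf_coe, ← lcm_cycleType, hx]; simp
    have hoy : orderOf y = 3 := by rw [← Subgroup.orderOf_coe, ← lcm_cycleType, hy]; simp
    obtain ⟨g, hg⟩ := hcon x hox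
    obtain ⟨h, hh⟩ := hcon y hoy
    let x' : K := ⟨g * x * g⁻¹, hg⟩
    let y' : K := ⟨h * y * h⁻¹, hh⟩
    have hox' : orderOf x' = 3 := by
      rw [← Subgroup.orderOf_coe]; show orderOf (g * x * g⁻¹) = 3
      rw [← MulAut.conj_apply, MulEquiv.orderOf_eq, hox]
    have hoy' : orderOf y' = 3 := by
      rw [← Subgroup.orderOf_coe]; show orderOf (h * y * h⁻¹) = 3
      rw [← MulAut.conj_apply, MulEquiv.orderOf_eq, hoy]
    have hK3 : (Nat.card K).factorization 3 = 1 := by
      have h9 : ¬ 3 ^ 2 ∣ Nat.card K := fun h9 => by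
        have h27 : 3 * 3 ^ 2 ∣ 360 := hprod ▸ Nat.mul_dvd_mul hrd h9
        norm_num at h27
      have h1 : 3 ∣ Nat.card K := hox' ▸ _root_.orderOf_dvd_natCard x'
      have := Nat.prime_three.factorization_pos_of_dvd Nat.card_pos.ne' h1
      have : ¬ 2 ≤ (Nat.card K).factorization 3 := fun h2 =>
        h9 ((Nat.prime_three.pow_dvd_iff_le_factorization Nat.card_pos.ne').2 h2)
      omega
    let P : Sylow 3 K := Sylow.ofCard (Subgroup.zpowers x') (by rw [Nat.card_zpowers, hox', hK3, pow_one])
    let Q : Sylow 3 K := Sylow.ofCard (Subgroup.zpowers y') (by rw [Nat.card_zpowers, hoy', hK3, pow_one])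
    obtain ⟨c, hc⟩ := MulAction.exists_smul_eq K Q P
    have hmem : c * y' * c⁻¹ ∈ Subgroup.zpowers x' := by
      have hc' : MulAut.conj c • Subgroup.zpowers y' = Subgroup.zpowers x' := by
        have := congrArg Sylow.toSubgroup hc
        simpa [P, Q, Sylow.smul_def, Sylow.pointwise_smul_def] using this
      rw [← hc']
      exact ⟨y', Subgroup.mem_zpowers y', rfl⟩
    obtain ⟨i, hi⟩ := hmem
    have hi' := congrArg (fun k : K => ((k : alternatingGroup α) : Perm α)) hi
    simp only [Subgroup.coe_zpow, Subgroup.coe_mul, Subgroup.coe_inv, x', y'] at hi'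
    have h1 := congrArg (fun p : Perm α => p.support.card) hi'
    simp only [card_support_conj] at h1
    have h2 := Finset.card_le_card (support_zpow_le
      ((g : Perm α) * (x : Perm α) * (g : Perm α)⁻¹) i)
    rw [h1, card_support_conj, ← sum_cycleType, ← sum_cycleType, hx, hy] at h2
    simp at h2

end Cfsg.Agent.H66.AltDerangement
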