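import Cfsg.Agent.H66.FixityTwoSylow
import Cfsg.Agent.Fusion.Basic
import Cfsg.Agent.Frobenius.Action

/-!
# Groups of fixity two: the index two Frobenius subgroup
-/

set_option autoImplicit false
set_option linter.unusedSectionVars false
set_option linter.style.haveILetI false

namespace Cfsg.Agent.H66.FixityTwo

open Subgroup MulAction
open scoped commutatorElement

variable {G X : Type*} [Group G] [Finite G] [MulAction G X]

theorem atMostTwo_of_card [Fintype X]
    (hfix : ∀ g : G, g ≠ 1 → Nat.card (fixedBy X g) ≤ 2) : AtMostTwo G X := by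
  classical
  intro g hg a b c ha hb hc hab
  by_contra! h
  have h3 : Nat.card ({a, b, c} : Set X) ≤ Nat.card (fixedBy X g) := by
    apply Nat.card_mono (Set.toFinite _)
    rintro y (rfl | rfl | rfl) <;> assumption
  rw [Nat.card_coe_set_eq, Set.ncard_insert_of_notMem (by simp [hab, h.1.symm]),
    Set.ncard_pair h.2.symm] at h3
  have := hfix g hg
  omega

theorem normal_of_commutator_le {N : Subgroup G} (h : commutator G ≤ N) : N.Normal := by
  refine ⟨fun n hn g => ?_⟩
  have h1 : ⁅g, n⁆ ∈ N := h (commutator_mem_commutator (mem_top g) (mem_top n))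
  have := N.mul_mem h1 hn
  simpa [commutatorElement_def, mul_assoc] using this

/-- If the elements of `S \ A` have no fixed point and `A` fixes `α`, then there is a normal
subgroup `N` of index two with `N ∩ S = A`. -/
theorem exists_normal_index_two (S : Sylow 2 G) (α : X)
    (hidx : (stabilizer G α).relIndex (S : Subgroup G) = 2)
    (hno : ∀ u ∈ (S : Subgroup G), ∀ x : X, u • x = x → u • α = α) :
    ∃ N : Subgroup G, N.Normal ∧ N.index = 2 ∧
      N ⊓ (S : Subgroup G) = (S : Subgroup G) ⊓ stabilizer G α := by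
  haveI : Fact (Nat.Prime 2) := ⟨Nat.prime_two⟩
  set A := (S : Subgroup G) ⊓ stabilizer G α with hA
  have hmem : ∀ {u : G}, u ∈ A ↔ u ∈ (S : Subgroup G) ∧ u • α = α := fun {u} => Iff.rfl
  have hfoc : (S : Subgroup G).focalSubgroup ≤ A := by
    rw [focalSubgroup_def, closure_le]
    rintro g ⟨hg, x, hx, u, rfl⟩
    have hy : u * x⁻¹ * u⁻¹ ∈ (S : Subgroup G) := by
      have := mul_mem (inv_mem hx) hg
      simpa [commutatorElement_def, mul_assoc] using this
    have key : x • α = α ↔ (u * x⁻¹ * u⁻¹) • α = α := by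
      constructor
      · intro h
        refine hno _ hy (u • α) ?_
        rw [mul_smul, mul_smul, inv_smul_smul, inv_smul_eq_iff.mpr h.symm]
      · intro h
        refine inv_smul_eq_iff.mp ?_ |>.symm
        refine hno _ (inv_mem hx) (u⁻¹ • α) ?_
        rwa [mul_smul, mul_smul, smul_eq_iff_eq_inv_smul] at h
    refine hmem.mpr ⟨hg, ?_⟩
    have h2 : (stabilizer ↥(S : Subgroup G) α).index = 2 := hidx
    have := (mul_mem_iff_of_index_two h2 (a := ⟨x, hx⟩) (b := ⟨_, hy⟩)).mpr
      (by simpa only [mem_stabilizer_iff, Subgroup.mk_smul] using key)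
    simpa [mem_stabilizer_iff, Subgroup.mk_smul, commutatorElement_def, mul_assoc] using this
  haveI : (pResidual 2 G ⊔ commutator G).Normal := normal_of_commutator_le le_sup_right
  set M := pResidual 2 G ⊔ commutator G with hM
  haveI hN : (M ⊔ A).Normal := normal_of_commutator_le (le_sup_right.trans le_sup_left)
  have hint : (M ⊔ A) ⊓ (S : Subgroup G) = A := by
    refine le_antisymm ?_ (le_inf le_sup_right inf_le_left)
    intro g hg
    have hg1 : g ∈ ((M ⊔ A : Subgroup G) : Set G) := hg.1
    rw [normal_mul] at hg1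
    obtain ⟨m, hm, a, ha, rfl⟩ := Set.mem_mul.mp hg1
    refine mul_mem (hfoc ?_) ha
    rw [← Fusion.pResidual_sup_commutator_inf S]
    exact ⟨hm, ((S : Subgroup G).mul_mem_cancel_right ha.1).mp hg.2⟩
  refine ⟨M ⊔ A, hN, ?_, hint⟩
  have htop : (S : Subgroup G) ⊔ (M ⊔ A) = ⊤ :=
    Fusion.sylow_sup_eq_top S (le_sup_left.trans le_sup_left)
  rw [← relIndex_top_right, ← htop, relIndex_sup_right, ← inf_relIndex_right, hint, hA,
    inf_comm, inf_relIndex_right]
  exact hidx

/-- The index two subgroup is a Frobenius group. -/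
theorem frobenius_of_index_two (htr : IsPretransitive G X) [FaithfulSMul G X] [Finite X]
    (hfix : AtMostTwo G X) (S : Sylow 2 G) (α : X)
    (hne : (S : Subgroup G) ⊓ stabilizer G α ≠ ⊥)
    (hidx : (stabilizer G α).relIndex (S : Subgroup G) = 2)
    (hno : ∀ u ∈ (S : Subgroup G), ∀ x : X, u • x = x → u • α = α) :
    ∃ N : Subgroup G, N.Normal ∧ N.index = 2 ∧ ∃ H : Subgroup ↥N, IsFrobeniusComplement H := by
  haveI : Fact (Nat.Prime 2) := ⟨Nat.prime_two⟩
  obtain ⟨N, hN, hN2, hNS⟩ := exists_normal_index_two S α hidx hno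
  haveI := hN
  refine ⟨N, hN, hN2, ?_⟩
  -- every element fixing a point lies in `N`
  have hstab : ∀ x : X, stabilizer G x ≤ N := by
    intro x g hg
    by_contra hgN
    obtain ⟨k, m, hm, hkm⟩ := Nat.exists_eq_two_pow_mul_odd (orderOf_pos g).ne'
    have hgm : g ^ m ∉ N := by
      obtain ⟨j, rfl⟩ := hm
      intro h
      rw [pow_succ] at h
      have h2 : g ^ (2 * j) ∈ N := by
        rw [pow_mul]; exact pow_mem (sq_mem_of_index_two hN2 g) j
      exact hgN ((N.mul_mem_cancel_left h2).mp h)
    have hord : (g ^ m) ^ 2 ^ k = 1 := by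
      rw [← pow_mul, mul_comm, ← hkm, pow_orderOf_eq_one]
    have hp : IsPGroup 2 (zpowers (g ^ m)) := by
      rintro ⟨y, hy⟩
      obtain ⟨i, rfl⟩ := mem_zpowers_iff.mp hy
      exact ⟨k, Subtype.ext (by
        push_cast
        rw [← zpow_natCast, ← zpow_mul, mul_comm, zpow_mul, zpow_natCast, hord, one_zpow])⟩
    obtain ⟨Q, hQ⟩ := hp.exists_le_sylow
    obtain ⟨c, hc⟩ := MulAction.exists_smul_eq G Q S
    have hcS : c * g ^ m * c⁻¹ ∈ (S : Subgroup G) := by
      rw [← hc]
      exact ⟨g ^ m, hQ (mem_zpowers _), rfl⟩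
    have hfixc : (c * g ^ m * c⁻¹) • (c • x) = c • x := by
      rw [mul_smul, mul_smul, inv_smul_smul,
        mem_stabilizer_iff.mp (pow_mem hg m)]
    have : c * g ^ m * c⁻¹ ∈ N ⊓ (S : Subgroup G) := by
      rw [hNS]; exact ⟨hcS, hno _ hcS _ hfixc⟩
    have h2 := hN.conj_mem _ this.1 c⁻¹
    simp [mul_assoc] at h2
    exact hgm h2
  -- the orbit of `α` has odd size
  have hodd : Odd (stabilizer ↥N α).index := by
    have hA : (S : Subgroup G) ⊓ stabilizer G α ≤ stabilizer G α := inf_le_right
    have e1 : ((S : Subgroup G) ⊓ stabilizer G α).index = 2 * (S : Subgroup G).index := by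
      rw [← relIndex_mul_index (inf_le_left (a := (S : Subgroup G)) (b := stabilizer G α)),
        inf_comm, inf_relIndex_right, hidx]
    have e2 : ((S : Subgroup G) ⊓ stabilizer G α).index =
        ((S : Subgroup G) ⊓ stabilizer G α).relIndex (stabilizer G α) *
          ((stabilizer G α).relIndex N * 2) := by
      rw [← relIndex_mul_index hA, ← relIndex_mul_index (hstab α), hN2]
    have e3 : (stabilizer ↥N α).index = (stabilizer G α).relIndex N := rfl
    have hS : Odd (S : Subgroup G).index :=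
      Nat.not_even_iff_odd.mp fun h => S.not_dvd_index' (index_ne_zero_of_finite) h.two_dvd
    rw [e3]
    refine Odd.of_dvd_nat hS ⟨((S : Subgroup G) ⊓ stabilizer G α).relIndex (stabilizer G α), ?_⟩
    rw [e1] at e2
    nlinarith
  obtain ⟨t, htS, htA⟩ : ∃ t ∈ (S : Subgroup G), t ∉ N := by
    by_contra! h
    have : N ⊓ (S : Subgroup G) = (S : Subgroup G) := inf_eq_right.mpr h
    rw [hNS] at this
    rw [← inf_relIndex_right, inf_comm, this, relIndex_self] at hidx
    omega
  -- the two orbits are disjoint, of the same size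
  have hdisj : ∀ a : X, a ∈ orbit ↥N α → a ∉ orbit ↥N (t • α) := by
    rintro a ⟨n, rfl⟩ ⟨n', h⟩
    have h' : (n : G)⁻¹ * ((n' : G) * t) ∈ stabilizer G α := by
      refine mem_stabilizer_iff.mpr ?_
      rw [mul_smul, mul_smul, inv_smul_eq_iff]
      exact h
    have := hstab α h'
    rw [N.mul_mem_cancel_left (inv_mem n.2), N.mul_mem_cancel_left n'.2] at this
    exact htA this
  have hcard : (orbit ↥N (t • α)).ncard = (orbit ↥N α).ncard := by
    have : orbit ↥N (t • α) = (t • ·) '' orbit ↥N α := by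
      ext a
      constructor
      · rintro ⟨n, rfl⟩
        refine ⟨(⟨t⁻¹ * n * t, by simpa using hN.conj_mem _ n.2 t⁻¹⟩ : N) • α, mem_orbit _ _, ?_⟩
        show t • ((t⁻¹ * (n : G) * t) • α) = (n : G) • t • α
        rw [mul_smul, mul_smul, smul_inv_smul]
      · rintro ⟨_, ⟨n, rfl⟩, rfl⟩
        refine ⟨(⟨t * n * t⁻¹, hN.conj_mem _ n.2 t⟩ : N), ?_⟩
        show (t * (n : G) * t⁻¹) • t • α = t • (n : G) • α
        rw [mul_smul, mul_smul, inv_smul_smul]
    rw [this, Set.ncard_image_of_injective _ (MulAction.injective t)]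
  rw [index_stabilizer] at hodd
  -- an element of prime order fixes at most one point of the orbit
  have hprime : ∀ h : ↥N, (orderOf h).Prime → ∀ a b : orbit ↥N α,
      h • a = a → h • b = b → a = b := by
    intro h hq a b ha hb
    by_contra hab
    haveI : Fact (orderOf h).Prime := ⟨hq⟩
    have hh1 : (h : G) ≠ 1 := fun e => hq.one_lt.ne' (orderOf_eq_one_iff.mpr (Subtype.ext e))
    have hab' : (a : X) ≠ b := fun e => hab (Subtype.ext e)
    have ha' : (h : G) • (a : X) = a := congrArg Subtype.val ha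
    have hb' : (h : G) • (b : X) = b := congrArg Subtype.val hb
    have hp : IsPGroup (orderOf h) (zpowers h) :=
      IsPGroup.of_card (n := 1) (by rw [Nat.card_zpowers, pow_one])
    have c1 := hp.card_modEq_card_fixedPoints (orbit ↥N α)
    have c2 := hp.card_modEq_card_fixedPoints (orbit ↥N (t • α))
    have f1 : Nat.card (fixedPoints (zpowers h) (orbit ↥N α)) = 2 := by
      classical
      have e : fixedPoints (zpowers h) (orbit ↥N α) = {a, b} := by
        ext c
        constructor
        · intro hc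
          have hc' : (h : G) • (c : X) = c :=
            congrArg Subtype.val (hc ⟨h, mem_zpowers h⟩)
          rcases hfix _ hh1 a b c ha' hb' hc' hab' with e | e
          · exact Or.inl (Subtype.ext e)
          · exact Or.inr (Subtype.ext e)
        · rintro hc ⟨y, hy⟩
          have hle : zpowers h ≤ stabilizer ↥N c := by
            rw [zpowers_le, mem_stabilizer_iff]
            rcases hc with rfl | rfl <;> assumption
          exact mem_stabilizer_iff.mp (hle hy)
      rw [e, Nat.card_coe_set_eq, Set.ncard_pair hab]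
    have f2 : Nat.card (fixedPoints (zpowers h) (orbit ↥N (t • α))) = 0 := by
      rw [Nat.card_eq_zero]
      refine Or.inl ⟨fun ⟨c, hc⟩ => ?_⟩
      have hc' : (h : G) • (c : X) = c := congrArg Subtype.val (hc ⟨h, mem_zpowers h⟩)
      rcases hfix _ hh1 a b c ha' hb' hc' hab' with e | e
      · exact hdisj _ a.2 (e ▸ c.2)
      · exact hdisj _ b.2 (e ▸ c.2)
    rw [f1, Nat.card_coe_set_eq] at c1
    rw [f2, Nat.card_coe_set_eq, hcard] at c2
    have hd : orderOf h ∣ 2 := Nat.modEq_zero_iff_dvd.mp (c1.symm.trans c2)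
    rw [(Nat.prime_dvd_prime_iff_eq hq Nat.prime_two).mp hd] at c2
    exact Nat.not_even_iff_odd.mpr hodd (even_iff_two_dvd.mpr (Nat.modEq_zero_iff_dvd.mp c2))
  have hone : ∀ g : ↥N, g ≠ 1 → ∀ a b : orbit ↥N α, g • a = a → g • b = b → a = b := by
    intro g hg a b ha hb
    have ho : orderOf g ≠ 1 := fun h => hg (orderOf_eq_one_iff.mp h)
    obtain ⟨q, hq, hqd⟩ := Nat.exists_prime_and_dvd ho
    haveI : Fact q.Prime := ⟨hq⟩
    obtain ⟨⟨h, hh⟩, hh'⟩ := exists_prime_orderOf_dvd_card' (G := zpowers g) q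
      (by rwa [Nat.card_zpowers])
    rw [← Subgroup.orderOf_coe] at hh'
    have hle : ∀ c : orbit ↥N α, g • c = c → h • c = c := fun c hc =>
      mem_stabilizer_iff.mp ((zpowers_le.mpr (mem_stabilizer_iff.mpr hc) :
        zpowers g ≤ stabilizer ↥N c) hh)
    exact hprime h (by rw [hh']; exact hq) a b (hle a ha) (hle b hb)
  refine ⟨_, Frobenius.stabilizer_isFrobeniusComplement hone ⟨α, mem_orbit_self α⟩ ?_ ?_⟩
  · intro h
    refine hne ((eq_bot_iff_forall _).mpr fun a ha => ?_)
    have haN : a ∈ N := hstab α ha.2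
    have : (⟨a, haN⟩ : N) ∈ stabilizer ↥N (⟨α, mem_orbit_self α⟩ : orbit ↥N α) :=
      mem_stabilizer_iff.mpr (Subtype.ext ha.2)
    rw [h] at this
    exact congrArg Subtype.val this
  · intro h
    apply hne
    rw [eq_bot_iff_forall]
    intro a ha
    refine eq_of_smul_eq_smul (α := X) fun x => ?_
    rw [one_smul]
    obtain ⟨g, rfl⟩ := htr.exists_smul_eq α x
    have haN : g⁻¹ * a * g ∈ N := by simpa using hN.conj_mem _ (hstab α ha.2) g⁻¹
    have : (⟨_, haN⟩ : N) ∈ stabilizer ↥N (⟨α, mem_orbit_self α⟩ : orbit ↥N α) := h ▸ mem_top _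
    have h' : (g⁻¹ * a * g) • α = α := congrArg Subtype.val (mem_stabilizer_iff.mp this)
    rwa [mul_smul, mul_smul, inv_smul_eq_iff] at h'

end Cfsg.Agent.H66.FixityTwo
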