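import Mathlib
import Cfsg.Prelude.Def_ChevG2
import Cfsg.Agent.H67.U33Degrees
import Cfsg.Agent.Unitary.Generation
import Cfsg.Agent.H66.G2U3Data

/-!
The derived group of `G₂(2)` is `PSU₃(3)`: the `63` nonisotropic lines of the unitary plane
correspond to the `63` long root vectors of the adjoint module, compatibly with generators.
-/

set_option autoImplicit false
set_option maxRecDepth 100000
set_option maxHeartbeats 400000

namespace Cfsg.Agent.H66.G2U3

open Matrix Cfsg Cfsg.Agent.Unitary Cfsg.Agent.H67.U33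

attribute [local instance] fintypeK9


/-- The field with two elements. -/
abbrev E2 : Type := ZMod 2

/-- The position of a coordinate. -/
def pos : Cfsg.Lie.chevG2.Idx → ℕ
  | Sum.inl i => i.val
  | Sum.inr u => 2 + u.val

/-- The vector with a given bit mask. -/
def decV (n : ℕ) : Cfsg.Lie.chevG2.Idx → E2 := fun a => if n.testBit (pos a) then 1 else 0

theorem decV_xor (a b : ℕ) : decV (a ^^^ b) = decV a + decV b := by
  funext i
  simp only [decV, Nat.testBit_xor, Pi.add_apply]
  cases a.testBit (pos i) <;> cases b.testBit (pos i) <;> decide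

theorem decV_zero : decV 0 = 0 := by
  funext i
  simp [decV]

/-- Apply the mask-coded root element `r`. -/
def stepN (r n : ℕ) : ℕ :=
  (List.range 14).foldl (fun acc c => if n.testBit c then acc ^^^ (g2Cols.getD r []).getD c 0 else acc) 0

/-- Apply a word. -/
def wordN : List (Fin 12) → ℕ → ℕ
  | [], n => n
  | r :: l, n => stepN r.val (wordN l n)

/-- Sum of the selected columns. -/
def colSum (cols : ℕ → ℕ) (n : ℕ) : List ℕ → ℕ
  | [] => 0
  | c :: l => (if n.testBit c then cols c else 0) ^^^ colSum cols n l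

theorem foldl_eq (cols : ℕ → ℕ) (n : ℕ) : ∀ (l : List ℕ) (a : ℕ),
    l.foldl (fun acc c => if n.testBit c then acc ^^^ cols c else acc) a = a ^^^ colSum cols n l
  | [], a => by simp [colSum]
  | c :: l, a => by
    rw [List.foldl_cons, foldl_eq cols n l]
    simp only [colSum]
    split_ifs <;> simp [Nat.xor_assoc]

theorem decV_colSum (cols : ℕ → ℕ) (n : ℕ) : ∀ l : List ℕ,
    decV (colSum cols n l) = (l.map fun c => if n.testBit c then decV (cols c) else 0).sum
  | [] => by simp [colSum, decV_zero]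
  | c :: l => by
    simp only [colSum, List.map_cons, List.sum_cons, decV_xor, decV_colSum cols n l]
    split_ifs <;> simp [decV_zero]

theorem cols_ok (r : Fin 12) (a b : Cfsg.Lie.chevG2.Idx) : Cfsg.Lie.chevG2.xMat E2 r 1 a b =
    if ((g2Cols.getD r.val []).getD (pos b) 0).testBit (pos a) then 1 else 0 := by
  have h : ∀ (r : Fin 12) (p : (Fin 2 ⊕ Fin 12) × (Fin 2 ⊕ Fin 12)),
      Cfsg.Lie.chevG2.xMat E2 r 1 p.1 p.2 =
        if ((g2Cols.getD r.val []).getD (pos p.2) 0).testBit (pos p.1) then 1 else 0 := by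
    decide +kernel
  exact h r (a, b)

theorem sum_pos (h : ℕ → E2) : ∑ b : Cfsg.Lie.chevG2.Idx, h (pos b) = ((List.range 14).map h).sum := by
  show ∑ b : Fin 2 ⊕ Fin 12, h (pos b) = _
  rw [Fintype.sum_sum_type, Fin.sum_univ_two, ← List.sum_ofFn,
    show (List.range 14).map h = [h 0, h 1] ++ List.ofFn (fun u : Fin 12 => h (2 + u.val)) by rfl,
    List.sum_append, List.sum_cons, List.sum_singleton]
  rfl

theorem decV_stepN (r : Fin 12) (n : ℕ) : decV (stepN r.val n) = Cfsg.Lie.chevG2.xMat E2 r 1 *ᵥ decV n := by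
  rw [stepN, foldl_eq, Nat.zero_xor, decV_colSum]
  funext a
  rw [show ∀ (l : List (Cfsg.Lie.chevG2.Idx → E2)), l.sum a = (l.map fun v => v a).sum from fun l => by
      induction l with
      | nil => rfl
      | cons v l ih => simp [ih], List.map_map, Matrix.mulVec, dotProduct]
  simp only [cols_ok]
  rw [show (fun b : Cfsg.Lie.chevG2.Idx => (if ((g2Cols.getD r.val []).getD (pos b) 0).testBit (pos a) then (1 : E2) else 0) *
      decV n b) = fun b => (fun c => (if ((g2Cols.getD r.val []).getD c 0).testBit (pos a) then (1 : E2) else 0) *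
      (if n.testBit c then 1 else 0)) (pos b) from rfl]
  refine Eq.trans ?_ (sum_pos fun c => (if ((g2Cols.getD r.val []).getD c 0).testBit (pos a) then (1 : E2) else 0) *
    (if n.testBit c then 1 else 0)).symm
  refine congrArg List.sum (List.map_congr_left fun c _ => ?_)
  simp only [Function.comp_apply]
  split_ifs <;> simp_all [decV]

theorem xMat_sq : ∀ r : Fin 12, ∀ c : Fin 14, stepN r.val (stepN r.val (2 ^ c.val)) = 2 ^ c.val := by
  decide +kernel

theorem decV_single (b : Cfsg.Lie.chevG2.Idx) : decV (2 ^ pos b) = Pi.single b (1 : E2) := by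
  have h : ∀ a b : Fin 2 ⊕ Fin 12,
      (if ((2 : ℕ) ^ pos b).testBit (pos a) then (1 : E2) else 0) = if a = b then 1 else 0 := by
    decide +kernel
  funext a
  rw [Pi.single_apply]
  exact h a b

theorem pos_lt : ∀ b : Cfsg.Lie.chevG2.Idx, pos b < 14 := by decide +kernel

theorem ext_single {M N : Matrix Cfsg.Lie.chevG2.Idx Cfsg.Lie.chevG2.Idx E2}
    (h : ∀ b : Cfsg.Lie.chevG2.Idx, M *ᵥ decV (2 ^ pos b) = N *ᵥ decV (2 ^ pos b)) : M = N := by
  refine Matrix.ext fun a b => ?_
  have := congrFun (h b) a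
  simpa [decV_single, Matrix.mulVec_single_one] using this

theorem xMat_mul_self (r : Fin 12) : Cfsg.Lie.chevG2.xMat E2 r 1 * Cfsg.Lie.chevG2.xMat E2 r 1 = 1 := by
  refine ext_single fun b => ?_
  rw [← Matrix.mulVec_mulVec, ← decV_stepN, ← decV_stepN, Matrix.one_mulVec]
  exact congrArg decV (xMat_sq r ⟨pos b, pos_lt b⟩)

/-- The root elements of `G₂(2)`. -/
noncomputable def xg (r : Fin 12) : ↥(Cfsg.Lie.chevG2.group E2) :=
  ⟨⟨Cfsg.Lie.chevG2.xMat E2 r 1, Cfsg.Lie.chevG2.xMat E2 r 1, xMat_mul_self r, xMat_mul_self r⟩,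
    Subgroup.subset_closure ⟨r, 1, rfl⟩⟩

/-- Words in the root elements. -/
noncomputable def xw : List (Fin 12) → ↥(Cfsg.Lie.chevG2.group E2)
  | [] => 1
  | r :: l => xg r * xw l

/-- The matrix of an element. -/
noncomputable def mat (g : ↥(Cfsg.Lie.chevG2.group E2)) : Matrix Cfsg.Lie.chevG2.Idx Cfsg.Lie.chevG2.Idx E2 := ((g : GL Cfsg.Lie.chevG2.Idx E2) : Matrix Cfsg.Lie.chevG2.Idx Cfsg.Lie.chevG2.Idx E2)

theorem mat_mul (g h : ↥(Cfsg.Lie.chevG2.group E2)) : mat (g * h) = mat g * mat h := rfl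

theorem decV_wordN : ∀ (l : List (Fin 12)) (n : ℕ), decV (wordN l n) = mat (xw l) *ᵥ decV n
  | [], n => (Matrix.one_mulVec _).symm
  | r :: l, n => by
    rw [wordN, decV_stepN, decV_wordN l n, Matrix.mulVec_mulVec]
    rfl

/-- The image of a norm-one vector. -/
def fN (n : ℕ) : ℕ := fTab.getD n 0

/-- The words of the two unitary generators. -/
def genWords : List (List (Fin 12)) := [[8, 0, 10, 3], [9, 6, 5, 2, 0]]

theorem equi_ok : (sphere.all fun n => (List.range 2).all fun k =>
    fN (imgN (suC.getD k []) n) == wordN (genWords.getD k []) (fN n)) = true := by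
  decide +kernel

theorem combos_ok : ((List.range 14).all fun c => ((combos.getD c []).all fun n => sphere.contains n) &&
    ((combos.getD c []).foldr (fun n acc => fN n ^^^ acc) 0 == 2 ^ c)) = true := by
  decide +kernel

/-- A word in the unitary generators, as a word in the root elements. -/
def expand (w : List ℕ) : List (Fin 12) := w.flatMap fun k => genWords.getD k []

theorem xw_append : ∀ l m : List (Fin 12), xw (l ++ m) = xw l * xw m
  | [], m => (one_mul _).symm
  | r :: l, m => by rw [List.cons_append, xw, xw, xw_append l m, mul_assoc]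

theorem xw_eq_of {l m : List (Fin 12)}
    (h : ((List.range 14).all fun c => wordN l (2 ^ c) == wordN m (2 ^ c)) = true) : xw l = xw m := by
  refine Subtype.ext (Units.ext (ext_single fun b => ?_))
  simp only [List.all_eq_true, List.mem_range, beq_iff_eq] at h
  show mat (xw l) *ᵥ _ = mat (xw m) *ᵥ _
  rw [← decV_wordN, ← decV_wordN, h (pos b) (pos_lt b)]

theorem coset_ok : ∀ r : Fin 12, ((List.range 14).all fun c =>
    wordN [r] (2 ^ c) == wordN ((if (cosetTab.getD r.val (false, [])).1 then [(⟨zRoot, by decide⟩ : Fin 12)] else []) ++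
      expand (cosetTab.getD r.val (false, [])).2) (2 ^ c)) = true := by
  decide +kernel

theorem conj_ok : ∀ r : Fin 12, ∀ k : Fin 2, ((List.range 14).all fun c =>
    wordN (r :: (genWords.getD k.val [] ++ [r])) (2 ^ c) ==
      wordN (expand ((conjTab.getD r.val []).getD k.val [])) (2 ^ c)) = true := by
  decide +kernel

theorem xMat_zero (r : Fin 12) : Cfsg.Lie.chevG2.xMat E2 r 0 = 1 := by
  have h : ∀ (r : Fin 12) (p : (Fin 2 ⊕ Fin 12) × (Fin 2 ⊕ Fin 12)),
      Cfsg.Lie.chevG2.xMat E2 r 0 p.1 p.2 = if p.1 = p.2 then 1 else 0 := by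
    decide +kernel
  refine Matrix.ext fun a b => ?_
  rw [Matrix.one_apply]
  exact h r (a, b)

theorem closure_xg : Subgroup.closure (Set.range xg) = ⊤ := by
  refine eq_top_iff.2 fun g _ => ?_
  have h : Cfsg.Lie.chevG2.group E2 ≤ (Subgroup.closure (Set.range xg)).map (Subgroup.subtype _) := by
    refine (Subgroup.closure_le _).2 ?_
    rintro u ⟨r, t, hu⟩
    obtain rfl | rfl : t = 0 ∨ t = 1 := by
      clear hu; revert t; decide
    · have : u = 1 := Units.ext (by rw [hu]; exact xMat_zero r)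
      rw [this]
      exact Subgroup.one_mem _
    · exact ⟨xg r, Subgroup.subset_closure ⟨r, rfl⟩, Units.ext hu.symm⟩
  obtain ⟨u, hu, he⟩ := h g.2
  have : u = g := Subtype.ext he
  exact this ▸ hu

/-- Norm one scalars. -/
def unitsC : List ℕ := [1, 2, 3, 6]

theorem fiber3_ok : ([3, 27, 243, uStar].all fun n => sphere.contains n &&
    sphere.all fun n' => !(fN n' == fN n) || unitsC.any fun c => n' == smulN c n) = true := by
  decide +kernel

theorem diag_ok : (unitsC.all fun a => unitsC.all fun b => unitsC.all fun c =>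
    !((detN [a, 0, 0, 0, b, 0, 0, 0, c] == 3) &&
      unitsC.any fun d => imgN [a, 0, 0, 0, b, 0, 0, 0, c] uStar == smulN d uStar) ||
      (a == 3 && b == 3 && c == 3)) = true := by
  decide +kernel

/-- Words in the unitary generators for generators of a vector stabiliser. -/
def stabWords : List (List ℕ) := [[1, 0, 0, 0, 0, 1, 1], [0, 1, 1, 0, 1, 1, 0, 1]]

/-- Their matrices. -/
def stabGens : List (Matrix (Fin 3) (Fin 3) K9) :=
  stabWords.map fun w => (w.map fun k => suGens.getD k 1).prod

theorem stab_ok : treeOK (stabGens.map mcode) stabTree [27] = true ∧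
    (stabGens.all fun M => imgN (mcode M) 3 == 3) = true ∧ (27 :: stabTree.map (fun s => s.1)).Nodup ∧
    (27 :: stabTree.map (fun s => s.1)).length = 24 ∧
    ((27 :: stabTree.map (fun s => s.1)).all fun n => decide (n < 729)) = true := by
  decide +kernel

theorem fTab_lt : (fTab.all fun w => decide (w < 2 ^ 14)) = true := by decide +kernel

theorem fN_lt (n : ℕ) : fN n < 2 ^ 14 := by
  unfold fN
  rcases lt_or_ge n fTab.length with h | h
  · rw [List.getD_eq_getElem _ _ h]
    simpa using List.all_eq_true.1 fTab_lt _ (List.getElem_mem h)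
  · rw [List.getD_eq_default _ _ h]; norm_num

attribute [irreducible] fN

section

variable {K : Type*} [Field K] [Fintype K] (hK : Fintype.card K = 9)

include hK

theorem exists_gens : ∃ γ : ℕ → SU 3 K 3, ∀ k, g9 hK (γ k) = suGens.getD k 1 := by
  refine Classical.skolem (p := fun k (g : SU 3 K 3) => g9 hK g = suGens.getD k 1).1 fun k => ?_
  rcases lt_or_ge k suGens.length with h | h
  · rw [List.getD_eq_getElem _ _ h]
    obtain ⟨h1, h2⟩ := gens_facts.1 _ (List.getElem_mem h)
    exact g9_surj hK h1 h2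
  · rw [List.getD_eq_default _ _ h]
    exact ⟨1, map_one _⟩

theorem card_SU : Nat.card (SU 3 K 3) = 6048 := by
  have hK' : Fintype.card K = 3 ^ 2 := hK
  have hcen : Subgroup.center (SU 3 K 3) = ⊥ := by
    have h := Unitary.card_center_SU (n := 3) (q := 3) hK' (by norm_num)
    exact Subgroup.card_eq_one.1 (h.trans rfl)
  have h := (Subgroup.center (SU 3 K 3)).card_eq_card_quotient_mul_card_subgroup
  rw [hcen, Subgroup.card_bot, mul_one] at h
  rw [h, ← hcen]
  exact (psu_facts hK).1

/-- The coded generators generate. -/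
theorem closure_gens_eq_top (γ : ℕ → SU 3 K 3) (hγ : ∀ k, g9 hK (γ k) = suGens.getD k 1) :
    Subgroup.closure ({γ 0, γ 1} : Set (SU 3 K 3)) = ⊤ := by
  set Z := Subgroup.closure ({γ 0, γ 1} : Set (SU 3 K 3)) with hZ
  have hZk : ∀ k, γ k ∈ Z ∨ g9 hK (γ k) = 1 := by
    intro k
    match k with
    | 0 => exact Or.inl (Subgroup.subset_closure (Set.mem_insert _ _))
    | 1 => exact Or.inl (Subgroup.subset_closure (Set.mem_insert_of_mem _ rfl))
    | k + 2 => exact Or.inr ((hγ _).trans (List.getD_eq_default _ _ (by simp [suGens])))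
  have hmem : ∀ M ∈ suGens, ∃ g ∈ Z, g9 hK g = M := by
    intro M hM
    obtain ⟨i, hi, rfl⟩ := List.getElem_of_mem hM
    have hi2 : i < 2 := by simpa [suGens] using hi
    refine ⟨γ i, ?_, by rw [hγ, List.getD_eq_getElem _ _ hi]⟩
    interval_cases i
    · exact Subgroup.subset_closure (Set.mem_insert _ _)
    · exact Subgroup.subset_closure (Set.mem_insert_of_mem _ rfl)
  have hword : ∀ w : List ℕ, ∃ g ∈ Z, g9 hK g = (w.map fun k => suGens.getD k 1).prod := by
    intro w
    induction w with
    | nil => exact ⟨1, Z.one_mem, map_one _⟩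
    | cons k w ih =>
      obtain ⟨g, hg, hge⟩ := ih
      rcases hZk k with h | h
      · exact ⟨γ k * g, Z.mul_mem h hg, by rw [map_mul, hγ, hge, List.map_cons, List.prod_cons]⟩
      · exact ⟨g, hg, by rw [List.map_cons, List.prod_cons, ← hγ k, h, one_mul, hge]⟩
  have horb : ∀ x : S9, ∃ g ∈ Z, g9 hK g *ᵥ dec 3 = x.1 := by
    intro x
    refine orbit_cases (fun v => ∃ g ∈ Z, g9 hK g *ᵥ dec 3 = v) ?_ 1 ⟨1, Z.one_mem, ?_⟩ ?_ ?_
    · rintro M hM v ⟨g, hg, rfl⟩
      obtain ⟨h, hh, rfl⟩ := hmem M hM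
      exact ⟨h * g, Z.mul_mem hh hg, by rw [map_mul, Matrix.mulVec_mulVec]⟩
    · rw [map_one, Matrix.one_mulVec]
      rfl
    · intro h0
      have := x.2
      rw [h0] at this
      simp [herm] at this
    · rw [x.2]; simp
  have hstab : ∀ j : Fin 24, ∃ g ∈ Z, g9 hK g *ᵥ dec 3 = dec 3 ∧
      g9 hK g *ᵥ dec 27 = dec ((27 :: stabTree.map (fun s => s.1)).getD j.val 0) := by
    intro j
    refine treeSet_sound (gens := stabGens) stab_ok.1
      (fun v => ∃ g ∈ Z, g9 hK g *ᵥ dec 3 = dec 3 ∧ g9 hK g *ᵥ dec 27 = v) ?_ ?_ ?_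
    · rintro M hM v ⟨g, hg, hg1, rfl⟩
      have hM3 : M *ᵥ dec 3 = dec 3 := by
        have h := List.all_eq_true.1 stab_ok.2.1 M hM
        rw [beq_iff_eq] at h
        rw [← dec_enc (M *ᵥ dec 3), enc_mulVec, enc_dec 3 (by norm_num), h]
      obtain ⟨w, -, rfl⟩ := List.mem_map.1 hM
      obtain ⟨h, hh, he⟩ := hword w
      exact ⟨h * g, Z.mul_mem hh hg,
        by rw [map_mul, ← Matrix.mulVec_mulVec, hg1, he, hM3],
        by rw [map_mul, ← Matrix.mulVec_mulVec, he]⟩
    · exact ⟨1, Z.one_mem, by rw [map_one, Matrix.one_mulVec], by rw [map_one, Matrix.one_mulVec]⟩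
    · rw [List.getD_eq_getElem _ _ (by rw [stab_ok.2.2.2.1]; exact j.2)]
      exact List.getElem_mem _
  choose gv hgv hgv' using horb
  choose gs hgs hgs1 hgs2 using hstab
  let T : S9 × Fin 24 → Z := fun p => ⟨gv p.1 * gs p.2, Z.mul_mem (hgv _) (hgs _)⟩
  have hT : Function.Injective T := by
    rintro ⟨x, j⟩ ⟨y, k⟩ h
    have h' : gv x * gs j = gv y * gs k := congrArg Subtype.val h
    have hxy : x = y := by
      have := congrArg (fun g => g9 hK g *ᵥ dec 3) h'
      simp only [map_mul, ← Matrix.mulVec_mulVec, hgs1, hgv'] at this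
      exact Subtype.ext this
    subst hxy
    have hjk : gs j = gs k := mul_left_cancel h'
    have h2 := congrArg (fun g => g9 hK g *ᵥ dec 27) hjk
    simp only [hgs2] at h2
    have hb := stab_ok.2.2.2.2
    simp only [List.all_eq_true, decide_eq_true_eq] at hb
    have hlj : j.val < (27 :: stabTree.map (fun s => s.1)).length := by rw [stab_ok.2.2.2.1]; exact j.2
    have hlk : k.val < (27 :: stabTree.map (fun s => s.1)).length := by rw [stab_ok.2.2.2.1]; exact k.2
    rw [List.getD_eq_getElem _ _ hlj, List.getD_eq_getElem _ _ hlk] at h2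
    have h3 := congrArg enc h2
    rw [enc_dec _ (hb _ (List.getElem_mem _)), enc_dec _ (hb _ (List.getElem_mem _))] at h3
    exact Prod.ext rfl (Fin.ext (stab_ok.2.2.1.getElem_inj_iff.1 h3))
  refine Subgroup.eq_top_of_le_card _ ?_
  have h := Nat.card_le_card_of_injective T hT
  rw [Nat.card_prod, Nat.card_eq_fintype_card, card_S9, Nat.card_eq_fintype_card, Fintype.card_fin] at h
  rw [card_SU hK]
  exact h

/-- Compatible pairs. -/
noncomputable def compat : Subgroup (SU 3 K 3 × ↥(Cfsg.Lie.chevG2.group E2)) where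
  carrier := {p | ∀ x : S9, decV (fN (enc (sphereAct hK p.1 x).1)) = mat p.2 *ᵥ decV (fN (enc x.1))}
  one_mem' x := by
    rw [Prod.fst_one, Prod.snd_one, map_one]
    exact (Matrix.one_mulVec _).symm
  mul_mem' {p q} hp hq x := by
    rw [Prod.fst_mul, Prod.snd_mul, map_mul, Equiv.Perm.mul_apply, hp, hq, Matrix.mulVec_mulVec, mat_mul]
  inv_mem' {p} hp x := by
    have h := hp ((sphereAct hK p.1)⁻¹ x)
    rw [Prod.fst_inv, Prod.snd_inv, map_inv]
    rw [Equiv.Perm.inv_def, Equiv.apply_symm_apply] at h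
    rw [Equiv.Perm.inv_def, h, Matrix.mulVec_mulVec, ← mat_mul, inv_mul_cancel]
    exact (Matrix.one_mulVec _).symm

theorem gen_compat (γ : ℕ → SU 3 K 3) (hγ : ∀ k, g9 hK (γ k) = suGens.getD k 1) (k : ℕ) (hk : k < 2) :
    (γ k, xw (genWords.getD k [])) ∈ compat hK := by
  intro x
  have h := equi_ok
  simp only [List.all_eq_true, List.mem_range, beq_iff_eq] at h
  rw [sphereAct_apply, enc_mulVec, hγ, ← decV_wordN, ← h _ (enc_mem_sphere x) k hk]
  congr 3
  exact (show ∀ k < 2, mcode (suGens.getD k 1) = suC.getD k [] by decide +kernel) k hk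

theorem compat_unique {g : SU 3 K 3} {a b : ↥(Cfsg.Lie.chevG2.group E2)} (ha : (g, a) ∈ compat hK)
    (hb : (g, b) ∈ compat hK) : a = b := by
  have h := combos_ok
  simp only [List.all_eq_true, List.mem_range, Bool.and_eq_true, beq_iff_eq, List.contains_iff_mem] at h
  refine Subtype.ext (Units.ext (ext_single fun c => ?_))
  obtain ⟨hs, hc⟩ := h (pos c) (pos_lt c)
  have key : ∀ l : List ℕ, (∀ n ∈ l, n ∈ sphere) →
      mat a *ᵥ decV (l.foldr (fun n acc => fN n ^^^ acc) 0) =
        mat b *ᵥ decV (l.foldr (fun n acc => fN n ^^^ acc) 0) := by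
    intro l hl
    induction l with
    | nil => simp [decV_zero]
    | cons n l ih =>
      rw [List.foldr_cons, decV_xor, Matrix.mulVec_add, Matrix.mulVec_add,
        ih fun m hm => hl m (List.mem_cons_of_mem _ hm)]
      refine congrArg (fun v => v + mat b *ᵥ decV (l.foldr (fun n acc => fN n ^^^ acc) 0)) ?_
      have hn := hl n List.mem_cons_self
      have e := enc_dec n (mem_sphere.1 hn).1
      have h1 := ha ⟨dec n, herm_of_sphere hn⟩
      have h2 := hb ⟨dec n, herm_of_sphere hn⟩
      simp only [e] at h1 h2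
      exact h1.symm.trans h2
  have h3 := key _ hs
  rw [hc] at h3
  exact h3

omit [Field K] [Fintype K] hK in
theorem decV_inj : ∀ a b : ℕ, a < 2 ^ 14 → b < 2 ^ 14 → decV a = decV b → a = b := by
  intro a b ha hb h
  refine Nat.eq_of_testBit_eq fun i => ?_
  rcases lt_or_ge i 14 with hi | hi
  · obtain ⟨c, hc⟩ := (show ∀ i : Fin 14, ∃ c : Cfsg.Lie.chevG2.Idx, pos c = i.val by decide +kernel) ⟨i, hi⟩
    have := congrFun h c
    simp only [decV, hc] at this
    cases ha' : a.testBit i <;> cases hb' : b.testBit i <;> simp_all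
  · rw [Nat.testBit_lt_two_pow (ha.trans_le (Nat.pow_le_pow_right (by norm_num) hi)),
      Nat.testBit_lt_two_pow (hb.trans_le (Nat.pow_le_pow_right (by norm_num) hi))]

theorem compat_inj {g : SU 3 K 3} (hg : (g, (1 : ↥(Cfsg.Lie.chevG2.group E2))) ∈ compat hK) : g = 1 := by
  have hfib := fiber3_ok
  simp only [List.all_eq_true, Bool.and_eq_true, List.contains_iff_mem, Bool.or_eq_true,
    Bool.not_eq_true', beq_eq_false_iff_ne, List.any_eq_true, beq_iff_eq] at hfib
  have himg : ∀ n ∈ [3, 27, 243, uStar], ∃ c ∈ unitsC, imgN (mcode (g9 hK g)) n = smulN c n := by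
    intro n hn
    obtain ⟨hns, hall⟩ := hfib n hn
    have e := enc_dec n (mem_sphere.1 hns).1
    have h := hg ⟨dec n, herm_of_sphere hns⟩
    simp only at h
    rw [show mat (1 : ↥(Cfsg.Lie.chevG2.group E2)) = 1 from rfl, Matrix.one_mulVec, e] at h
    have hsph := enc_mem_sphere (sphereAct hK g ⟨dec n, herm_of_sphere hns⟩)
    rcases hall _ hsph with hne | ⟨c, hc, heq⟩
    · exact absurd (decV_inj _ _ (fN_lt _) (fN_lt _) h) hne
    · refine ⟨c, hc, ?_⟩
      rw [sphereAct_apply, enc_mulVec, e] at heq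
      exact heq
  obtain ⟨a, ha, ha'⟩ := himg 3 (by simp)
  obtain ⟨b, hb, hb'⟩ := himg 27 (by simp)
  obtain ⟨c, hc, hc'⟩ := himg 243 (by simp)
  obtain ⟨d, hd, hd'⟩ := himg uStar (by simp)
  set M := g9 hK g with hM
  have hcol : ∀ a ∈ unitsC, smulN a 3 = a ∧ smulN a 27 = 9 * a ∧ smulN a 243 = 81 * a ∧ a < 9 := by
    decide +kernel
  have hm : mcode M = [a, 0, 0, 0, b, 0, 0, 0, c] := by
    have l := fun i j => (edec_ecode (M i j)).2
    have z : ∀ x < 9, cmul x 3 = x ∧ cmul x 0 = 0 ∧ cadd x 0 = x ∧ cadd 0 x = x := by decide +kernel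
    rw [(hcol a ha).1] at ha'
    rw [(hcol b hb).2.1] at hb'
    rw [(hcol c hc).2.2.1] at hc'
    simp only [imgN, rowN, mcode, List.getD_cons_succ, List.getD_cons_zero, Nat.reduceMul, Nat.reduceAdd,
      Nat.reduceMod, Nat.reduceDiv, (z _ (l _ _)).1, (z _ (l _ _)).2.1, (z _ (l _ _)).2.2.1,
      (z 0 (by norm_num)).2.2.1, (z _ (l _ _)).2.2.2] at ha' hb' hc'
    simp only [mcode]
    have := (hcol a ha).2.2.2; have := (hcol b hb).2.2.2; have := (hcol c hc).2.2.2
    have := l 0 0; have := l 0 1; have := l 0 2; have := l 1 0; have := l 1 1; have := l 1 2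
    have := l 2 0; have := l 2 1; have := l 2 2
    simp only [List.cons.injEq, and_true]
    omega
  have hdet : detN (mcode M) = 3 := by
    refine ((ecode_det M).symm.trans (congrArg ecode ?_)).trans ecode_one
    rw [hM]
    show ((iso hK).symm.toRingHom.mapMatrix (slToMat 3 K ((SU 3 K 3).subtype g))).det = 1
    rw [← RingHom.map_det, show (slToMat 3 K ((SU 3 K 3).subtype g)).det = 1 from g.1.2, map_one]
  have h := diag_ok
  simp only [List.all_eq_true, Bool.or_eq_true, Bool.not_eq_true', Bool.and_eq_false_iff,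
    beq_eq_false_iff_ne, List.any_eq_false, beq_iff_eq, Bool.and_eq_true] at h
  rw [hm] at hdet hd'
  rcases h a ha b hb c hc with (h1 | h1) | ⟨⟨rfl, rfl⟩, rfl⟩
  · exact absurd hdet h1
  · exact absurd hd' (h1 d hd)
  · have hM1 : M = 1 := by
      refine Matrix.ext fun i j => ecode_inj ?_
      simp only [mcode, List.cons.injEq] at hm
      fin_cases i <;> fin_cases j <;> simp [ecode_zero, ecode_one] <;> omega
    refine Subtype.ext (Subtype.ext ?_)
    show slToMat 3 K ((SU 3 K 3).subtype g) = 1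
    apply_fun (iso hK).symm.toRingHom.mapMatrix using
      fun x y hxy => Matrix.ext fun i j => (iso hK).symm.injective (congrFun (congrFun hxy i) j)
    rw [map_one]
    exact hM1

/-- The derived group of `G₂(2)` over the prime field. -/
theorem nonempty_iso_prime :
    Nonempty (↥(commutator ↥(Cfsg.Lie.chevG2.group E2)) ≃* SU 3 K 3) := by
  obtain ⟨γ, hγ⟩ := exists_gens hK
  have hsurj : ∀ g : SU 3 K 3, ∃ a, (g, a) ∈ compat hK := by
    intro g
    have hle : Subgroup.closure ({γ 0, γ 1} : Set (SU 3 K 3)) ≤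
        (compat hK).map (MonoidHom.fst _ _) := by
      rw [Subgroup.closure_le]
      rintro x (rfl | rfl)
      · exact ⟨_, gen_compat hK γ hγ 0 (by norm_num), rfl⟩
      · exact ⟨_, gen_compat hK γ hγ 1 (by norm_num), rfl⟩
    rw [closure_gens_eq_top hK γ hγ] at hle
    obtain ⟨⟨g', a⟩, ha, rfl⟩ := hle (Subgroup.mem_top g)
    exact ⟨a, ha⟩
  choose f hf using hsurj
  have hmul : ∀ g h : SU 3 K 3, f (g * h) = f g * f h := fun g h => by
    refine compat_unique hK (hf (g * h)) ?_
    rw [← Prod.mk_mul_mk]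
    exact mul_mem (hf g) (hf h)
  let ψ : SU 3 K 3 →* ↥(Cfsg.Lie.chevG2.group E2) := MonoidHom.mk' f hmul
  have hψ : Function.Injective ψ := by
    rw [injective_iff_map_eq_one]
    intro g hg
    refine compat_inj hK ?_
    rw [← hg]
    exact hf g
  have hfin : Finite ↥(Cfsg.Lie.chevG2.group E2) := inferInstance
  have hψγ : ∀ k < 2, ψ (γ k) = xw (genWords.getD k []) := fun k hk =>
    compat_unique hK (hf (γ k)) (gen_compat hK γ hγ k hk)
  have hword : ∀ w : List ℕ, xw (expand w) ∈ ψ.range := by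
    intro w
    induction w with
    | nil => exact ψ.range.one_mem
    | cons k w ih =>
      rw [expand, List.flatMap_cons, xw_append]
      refine mul_mem ?_ ih
      rcases lt_or_ge k 2 with hk | hk
      · exact ⟨γ k, hψγ k hk⟩
      · rw [List.getD_eq_default _ _ (by simpa [genWords] using hk)]
        exact ψ.range.one_mem
  have hnorm : ψ.range.Normal := by
    rw [← Subgroup.normalizer_eq_top_iff, eq_top_iff, ← closure_xg, Subgroup.closure_le]
    rintro x ⟨r, rfl⟩
    have hinv : (xg r)⁻¹ = xg r := inv_eq_of_mul_eq_one_right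
      (Subtype.ext (Units.ext (xMat_mul_self r)))
    have hle : ψ.range.map (MulAut.conj (xg r)).toMonoidHom ≤ ψ.range := by
      rw [MonoidHom.range_eq_map, ← closure_gens_eq_top hK γ hγ, MonoidHom.map_closure,
        MonoidHom.map_closure, Subgroup.closure_le]
      rintro _ ⟨_, ⟨g, hg, rfl⟩, rfl⟩
      rw [← MonoidHom.map_closure, closure_gens_eq_top hK γ hγ, ← MonoidHom.range_eq_map]
      obtain ⟨k, hk, rfl⟩ : ∃ k < 2, g = γ k := by
        rcases hg with rfl | rfl
        · exact ⟨0, by norm_num, rfl⟩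
        · exact ⟨1, by norm_num, rfl⟩
      show xg r * ψ (γ k) * (xg r)⁻¹ ∈ ψ.range
      rw [hinv, hψγ k hk, mul_assoc,
        show xw (genWords.getD k []) * xg r = xw (genWords.getD k [] ++ [r]) by
          rw [xw_append]; simp [xw],
        show xg r * xw (genWords.getD k [] ++ [r]) = xw (r :: (genWords.getD k [] ++ [r])) from rfl,
        xw_eq_of (conj_ok r ⟨k, hk⟩)]
      exact hword _
    show xg r ∈ Subgroup.normalizer (ψ.range : Set _)
    rw [Subgroup.mem_normalizer_iff]
    intro n
    refine ⟨fun hn => hle ⟨n, hn, rfl⟩, fun hn => ?_⟩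
    have := hle ⟨_, hn, rfl⟩
    simpa [hinv, mul_assoc, ← mul_assoc (xg r) (xg r),
      show xg r * xg r = 1 from Subtype.ext (Units.ext (xMat_mul_self r))] using this
  have hperf : ψ.range ≤ commutator ↥(Cfsg.Lie.chevG2.group E2) := by
    rw [MonoidHom.range_eq_map, ← Cfsg.Agent.Unitary.commutator_eq_top (n := 3) (q := 3) (F := K) hK
      (Or.inr ⟨rfl, le_rfl⟩), commutator_def, commutator_def, Subgroup.map_commutator]
    exact Subgroup.commutator_mono le_top le_top
  have hle : commutator ↥(Cfsg.Lie.chevG2.group E2) ≤ ψ.range := by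
    let z : ↥(Cfsg.Lie.chevG2.group E2) := xg ⟨zRoot, by decide⟩
    have hcyc : ∀ g, QuotientGroup.mk' ψ.range g ∈
        Subgroup.zpowers (QuotientGroup.mk' ψ.range z) := by
      intro g
      have h : Subgroup.closure (Set.range xg) ≤
          (Subgroup.zpowers (QuotientGroup.mk' ψ.range z)).comap (QuotientGroup.mk' ψ.range) := by
        rw [Subgroup.closure_le]
        rintro x ⟨r, rfl⟩
        have he : xg r = xw [r] := (mul_one _).symm
        rw [SetLike.mem_coe, Subgroup.mem_comap, he, xw_eq_of (coset_ok r), xw_append, map_mul]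
        refine mul_mem ?_ ?_
        · split_ifs
          · rw [show xw [(⟨zRoot, by decide⟩ : Fin 12)] = z from mul_one _]
            exact Subgroup.mem_zpowers _
          · rw [xw, map_one]; exact one_mem _
        · rw [show QuotientGroup.mk' ψ.range (xw (expand (cosetTab.getD r.val (false, [])).2)) = 1
            from (QuotientGroup.eq_one_iff _).2 (hword _)]
          exact one_mem _
      exact h (closure_xg ▸ Subgroup.mem_top g)
    rw [commutator_def, Subgroup.commutator_le]
    intro a _ b _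
    rw [← QuotientGroup.eq_one_iff, ← QuotientGroup.mk'_apply, map_commutatorElement,
      commutatorElement_eq_one_iff_commute]
    obtain ⟨i, hi⟩ := hcyc a
    obtain ⟨j, hj⟩ := hcyc b
    rw [← hi, ← hj]
    exact Commute.zpow_zpow_self _ i j
  exact ⟨((MulEquiv.subgroupCongr (le_antisymm hperf hle)).symm.trans
    (MonoidHom.ofInjective hψ).symm)⟩

end

end Cfsg.Agent.H66.G2U3
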