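import Mathlib

/-!
Half-transitive, not semiregular groups of automorphisms (given by conjugation inside an ambient group): the group
acted on is elementary abelian and has no invariant subgroup apart from the two trivial ones.
-/

set_option autoImplicit false

namespace Cfsg.Agent.H66

variable {G : Type*} [Group G]

/-- The part of `H` fixing an element under conjugation. -/
def fixer (H : Subgroup G) (x : G) : Subgroup G := H ⊓ Subgroup.centralizer {x}

theorem mem_fixer {H : Subgroup G} {x h : G} : h ∈ fixer H x ↔ h ∈ H ∧ h * x * h⁻¹ = x := by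
  rw [fixer, Subgroup.mem_inf, Subgroup.mem_centralizer_singleton_iff, mul_inv_eq_iff_eq_mul]

/-- If all orbits of a group acting by conjugation on an invariant set have the same size, that size divides the size
of the set. -/
theorem relIndex_dvd_card [Finite G] (A : Subgroup G) (S : Set G) (hS : ∀ h ∈ A, ∀ y ∈ S, h * y * h⁻¹ ∈ S)
    (k : ℕ) (hk : ∀ y ∈ S, (Subgroup.centralizer {y}).relIndex A = k) : k ∣ Nat.card S := by
  classical
  letI : MulAction A S :=
    { smul := fun h y => ⟨(h : G) * y * (h : G)⁻¹, hS h h.2 y y.2⟩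
      one_smul := fun y => Subtype.ext (by show ((1 : A) : G) * y * ((1 : A) : G)⁻¹ = y; simp)
      mul_smul := fun g h y => Subtype.ext (by
        show ((g * h : A) : G) * y * ((g * h : A) : G)⁻¹ = (g : G) * ((h : G) * y * (h : G)⁻¹) * (g : G)⁻¹
        simp [mul_assoc]) }
  have horb : ∀ y : S, Nat.card (MulAction.orbit A y) = k := fun y => by
    have hst : MulAction.stabilizer A y = (Subgroup.centralizer {(y : G)}).subgroupOf A := by
      ext h
      rw [MulAction.mem_stabilizer_iff, Subgroup.mem_subgroupOf, Subgroup.mem_centralizer_singleton_iff,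
        ← mul_inv_eq_iff_eq_mul, Subtype.ext_iff]
      rfl
    rw [Nat.card_coe_set_eq, ← MulAction.index_stabilizer, hst]
    exact hk y y.2
  have : Fintype (Quotient (MulAction.orbitRel A S)) := Fintype.ofFinite _
  rw [Nat.card_congr (MulAction.selfEquivSigmaOrbits A S), Nat.card_sigma]
  exact Finset.dvd_sum fun i _ => dvd_of_eq (horb _).symm

variable [Finite G] {N H : Subgroup G} {s : ℕ}
  (hNorm : ∀ h ∈ H, ∀ x ∈ N, h * x * h⁻¹ ∈ N)
  (hs : ∀ x ∈ N, x ≠ 1 → (Subgroup.centralizer {x}).relIndex H = s)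
  (hcop : Nat.Coprime s (Nat.card N))

include hs hcop in
/-- An invariant set of size dividing the group order has constant fixer. -/
theorem fixer_eq_of_mem (A : Subgroup G) (hAH : A ≤ H) (S : Set G) (hSN : S ⊆ (N : Set G)) (h1 : (1 : G) ∉ S)
    (hcard : Nat.card S ∣ Nat.card N) (hS : ∀ h ∈ A, ∀ y ∈ S, h * y * h⁻¹ ∈ S)
    (hA : ∀ y ∈ S, fixer H y ≤ A) : ∀ y ∈ S, fixer H y = A := by
  intro y hy
  have hsplit : ∀ z ∈ S, (Subgroup.centralizer {z}).relIndex A * A.relIndex H = s := fun z hz => by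
    rw [← hs z (hSN hz) (fun e => h1 (e ▸ hz)), ← Subgroup.inf_relIndex_right (Subgroup.centralizer {z}) H,
      inf_comm]
    show _ = (fixer H z).relIndex H
    rw [← Subgroup.relIndex_mul_relIndex (fixer H z) A H (hA z hz) hAH]
    congr 1
    rw [fixer, inf_comm H, ← Subgroup.inf_relIndex_right (Subgroup.centralizer {z} ⊓ H) A, inf_assoc,
      inf_eq_right.mpr hAH, Subgroup.inf_relIndex_right]
  have hne : A.relIndex H ≠ 0 := Subgroup.index_ne_zero_of_finite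
  set k := (Subgroup.centralizer {y}).relIndex A with hk
  have hkall : ∀ z ∈ S, (Subgroup.centralizer {z}).relIndex A = k := fun z hz =>
    Nat.eq_of_mul_eq_mul_right (Nat.pos_of_ne_zero hne) ((hsplit z hz).trans (hsplit y hy).symm)
  have h2 : k ∣ Nat.card N := (relIndex_dvd_card A S hS k hkall).trans hcard
  have h3 : k ∣ s := ⟨_, (hsplit y hy).symm⟩
  have hk1 : k = 1 := Nat.eq_one_of_dvd_coprimes hcop h3 h2
  refine le_antisymm (hA y hy) ?_
  rw [fixer]
  exact le_inf hAH (Subgroup.relIndex_eq_one.mp hk1)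

include hs in
theorem fixer_eq_of_le {x y : G} (hx : x ∈ N) (hx1 : x ≠ 1) (hy : y ∈ N) (hy1 : y ≠ 1) (h : fixer H x ≤ fixer H y) :
    fixer H x = fixer H y := by
  refine Subgroup.eq_of_le_of_card_ge h (le_of_eq ?_)
  have key : ∀ z ∈ N, z ≠ 1 → Nat.card (fixer H z) * s = Nat.card H := fun z hz hz1 => by
    rw [← hs z hz hz1, ← Subgroup.inf_relIndex_right (Subgroup.centralizer {z}) H, inf_comm]
    show Nat.card (fixer H z) * (fixer H z).relIndex H = _
    have hle : fixer H z ≤ H := inf_le_left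
    have := ((fixer H z).subgroupOf H).card_mul_index
    rw [Nat.card_congr (Subgroup.subgroupOfEquivOfLe hle).toEquiv] at this
    exact this
  have h1 := key x hx hx1
  have h2 := key y hy hy1
  have hs0 : 0 < s := by
    rcases Nat.eq_zero_or_pos s with rfl | h0
    · rw [mul_zero] at h1; exact absurd h1.symm Nat.card_pos.ne'
    · exact h0
  exact Nat.eq_of_mul_eq_mul_right hs0 (h2.trans h1.symm)

variable (hne : ∃ x ∈ N, x ≠ 1 ∧ fixer H x ≠ ⊥) (hfaith : ∀ h ∈ H, (∀ x ∈ N, h * x * h⁻¹ = x) → h = 1)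

include hs hne hfaith in
/-- Every element has a partner with a different fixer. -/
theorem exists_fixer_ne {x : G} (hx : x ∈ N) (hx1 : x ≠ 1) : ∃ y ∈ N, y ≠ 1 ∧ fixer H y ≠ fixer H x := by
  by_contra hall
  push Not at hall
  obtain ⟨z, hz, hz1, hzne⟩ := hne
  refine hzne ((Subgroup.eq_bot_iff_forall _).mpr fun h hh => ?_)
  refine hfaith h (mem_fixer.mp hh).1 fun w hw => ?_
  by_cases hw1 : w = 1
  · simp [hw1]
  · exact (mem_fixer.mp (show h ∈ fixer H w by rw [hall w hw hw1, ← hall z hz hz1]; exact hh)).2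

include hNorm hs hcop hne hfaith in
/-- There is no invariant subgroup apart from the trivial ones. -/
theorem invariant_eq_bot_or_eq (W : Subgroup G) (hW : W ≤ N) (hinv : ∀ h ∈ H, ∀ w ∈ W, h * w * h⁻¹ ∈ W) :
    W = ⊥ ∨ W = N := by
  by_contra hcon
  push Not at hcon
  obtain ⟨hW1, hW2⟩ := hcon
  have key : ∀ x ∈ N, x ∉ W → ∀ w ∈ W, w ≠ 1 → fixer H x = fixer H w := by
    intro x hx hxW w hw hw1
    let A : Subgroup G :=
      { carrier := {h | h ∈ H ∧ x⁻¹ * (h * x * h⁻¹) ∈ W}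
        one_mem' := ⟨H.one_mem, by simp⟩
        mul_mem' := fun {a b} ha hb => ⟨H.mul_mem ha.1 hb.1, by
          rw [show x⁻¹ * (a * b * x * (a * b)⁻¹) = x⁻¹ * (a * x * a⁻¹) * (a * (x⁻¹ * (b * x * b⁻¹)) * a⁻¹) by group]
          exact W.mul_mem ha.2 (hinv a ha.1 _ hb.2)⟩
        inv_mem' := fun {a} ha => ⟨H.inv_mem ha.1, by
          have := W.inv_mem (hinv a⁻¹ (H.inv_mem ha.1) _ ha.2)
          rwa [show (a⁻¹ * (x⁻¹ * (a * x * a⁻¹)) * a⁻¹⁻¹)⁻¹ = x⁻¹ * (a⁻¹ * x * a⁻¹⁻¹) by group] at this⟩ }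
    let S : Set G := (x * ·) '' (W : Set G)
    have hA := fixer_eq_of_mem hs hcop A (fun h hh => hh.1) S ?_ ?_ ?_ ?_ ?_
    · refine fixer_eq_of_le hs hx (fun e => hxW (e ▸ W.one_mem)) (hW hw) hw1 fun h hh => ?_
      have e1 : fixer H x = A := hA x ⟨1, W.one_mem, mul_one x⟩
      have e2 : fixer H (x * w) = A := hA _ ⟨w, hw, rfl⟩
      have hh' : h ∈ fixer H (x * w) := by rw [e2, ← e1]; exact hh
      obtain ⟨hH, h1'⟩ := mem_fixer.mp hh
      obtain ⟨-, h2'⟩ := mem_fixer.mp hh'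
      refine mem_fixer.mpr ⟨hH, ?_⟩
      rw [show h * (x * w) * h⁻¹ = (h * x * h⁻¹) * (h * w * h⁻¹) by group, h1'] at h2'
      exact mul_left_cancel h2'
    · rintro _ ⟨v, hv, rfl⟩; exact N.mul_mem hx (hW hv)
    · rintro ⟨v, hv, e⟩
      exact hxW ((eq_inv_of_mul_eq_one_left e) ▸ W.inv_mem hv)
    · rw [Nat.card_image_of_injective (mul_right_injective x)]
      exact Subgroup.card_dvd_of_le hW
    · rintro h hh _ ⟨v, hv, rfl⟩
      exact ⟨x⁻¹ * (h * x * h⁻¹) * (h * v * h⁻¹), W.mul_mem hh.2 (hinv h hh.1 v hv), by group⟩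
    · rintro _ ⟨v, hv, rfl⟩ h hh
      obtain ⟨hH, e⟩ := mem_fixer.mp hh
      refine ⟨hH, ?_⟩
      have := W.mul_mem hv (W.inv_mem (hinv h hH v hv))
      rwa [show x⁻¹ * (h * x * h⁻¹) = x⁻¹ * (h * (x * v) * h⁻¹) * (h * v * h⁻¹)⁻¹ by group, e,
        inv_mul_cancel_left]
  obtain ⟨w0, hw0, hw01⟩ := W.ne_bot_iff_exists_ne_one.mp hW1 |> fun ⟨a, ha⟩ =>
    (⟨(a : G), a.2, fun e => ha (Subtype.ext e)⟩ : ∃ w ∈ W, w ≠ (1 : G))
  obtain ⟨x0, hx0, hx0W⟩ := SetLike.exists_of_lt (lt_of_le_of_ne hW hW2)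
  obtain ⟨y, hy, hy1, hyne⟩ := exists_fixer_ne hs hne hfaith (hW hw0) hw01
  by_cases hyW : y ∈ W
  · exact hyne ((key x0 hx0 hx0W y hyW hy1).symm.trans (key x0 hx0 hx0W w0 hw0 hw01))
  · exact hyne (key y hy hyW w0 hw0 hw01)

include hNorm hs hcop in
/-- Conjugate elements have the same fixer. -/
theorem fixer_conj {x n : G} (hx : x ∈ N) (hx1 : x ≠ 1) (hn : n ∈ N) : fixer H (n * x * n⁻¹) = fixer H x := by
  let S : Set G := {y | ∃ m ∈ N, m * x * m⁻¹ = y}
  let A : Subgroup G :=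
    { carrier := {h | h ∈ H ∧ h * x * h⁻¹ ∈ S}
      one_mem' := ⟨H.one_mem, 1, N.one_mem, by simp⟩
      mul_mem' := by
        rintro a b ⟨ha, m, hm, em⟩ ⟨hb, l, hl, el⟩
        refine ⟨H.mul_mem ha hb, a * l * a⁻¹ * m, N.mul_mem (hNorm a ha l hl) hm, ?_⟩
        rw [show a * b * x * (a * b)⁻¹ = a * (b * x * b⁻¹) * a⁻¹ by group, ← el,
          show a * (l * x * l⁻¹) * a⁻¹ = (a * l * a⁻¹) * (a * x * a⁻¹) * (a * l * a⁻¹)⁻¹ by group, ← em]
        group
      inv_mem' := by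
        rintro a ⟨ha, m, hm, em⟩
        refine ⟨H.inv_mem ha, a⁻¹ * m⁻¹ * a, ?_, ?_⟩
        · simpa using hNorm a⁻¹ (H.inv_mem ha) m⁻¹ (N.inv_mem hm)
        · calc a⁻¹ * m⁻¹ * a * x * (a⁻¹ * m⁻¹ * a)⁻¹ = a⁻¹ * (m⁻¹ * (a * x * a⁻¹) * m) * a := by group
            _ = _ := by rw [← em]; group }
  have hA := fixer_eq_of_mem hs hcop A (fun h hh => hh.1) S ?_ ?_ ?_ ?_ ?_
  · rw [hA _ ⟨n, hn, rfl⟩, hA x ⟨1, N.one_mem, by simp⟩]
  · rintro _ ⟨m, hm, rfl⟩; exact N.mul_mem (N.mul_mem hm hx) (N.inv_mem hm)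
  · rintro ⟨m, -, e⟩; exact hx1 (conj_eq_one_iff.mp e)
  · have e : Nat.card S = Nat.card (MulAction.orbit (ConjAct N) (⟨x, hx⟩ : N)) := by
      refine Nat.card_congr (Equiv.ofBijective (fun y : MulAction.orbit (ConjAct N) (⟨x, hx⟩ : N) => (⟨((y : N) : G), ?_⟩ : S)) ⟨?_, ?_⟩).symm
      · obtain ⟨m, hm⟩ := MulAction.mem_orbit_iff.mp y.2
        exact ⟨(ConjAct.ofConjAct m : N), (ConjAct.ofConjAct m).2, by
          rw [← hm, ConjAct.smul_def]; simp⟩
      · intro y z e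
        exact Subtype.ext (Subtype.ext (congrArg (fun w : S => (w : G)) e))
      · rintro ⟨_, m, hm, rfl⟩
        exact ⟨⟨ConjAct.toConjAct (⟨m, hm⟩ : N) • (⟨x, hx⟩ : N), MulAction.mem_orbit _ _⟩,
          Subtype.ext (by simp [ConjAct.smul_def])⟩
    rw [e, ← Nat.card_congr (ConjAct.toConjAct (G := N)).toEquiv.symm, Nat.card_coe_set_eq,
      ← MulAction.index_stabilizer]
    exact Subgroup.index_dvd_card _
  · rintro h ⟨hh, m, hm, em⟩ _ ⟨l, hl, rfl⟩
    refine ⟨h * l * h⁻¹ * m, N.mul_mem (hNorm h hh l hl) hm, ?_⟩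
    rw [show h * (l * x * l⁻¹) * h⁻¹ = (h * l * h⁻¹) * (h * x * h⁻¹) * (h * l * h⁻¹)⁻¹ by group, ← em]
    group
  · rintro _ ⟨l, hl, rfl⟩ h hh
    obtain ⟨hH, e⟩ := mem_fixer.mp hh
    refine ⟨hH, h * l⁻¹ * h⁻¹ * l, N.mul_mem (hNorm h hH _ (N.inv_mem hl)) hl, ?_⟩
    calc h * l⁻¹ * h⁻¹ * l * x * (h * l⁻¹ * h⁻¹ * l)⁻¹ = h * l⁻¹ * h⁻¹ * (l * x * l⁻¹) * h * l * h⁻¹ := by group
      _ = h * l⁻¹ * h⁻¹ * (h * (l * x * l⁻¹) * h⁻¹) * h * l * h⁻¹ := by rw [e]
      _ = _ := by group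

include hNorm hs hcop hne hfaith in
/-- A half-transitive, not semiregular group of automorphisms acts on an elementary abelian group. -/
theorem elementary_of_halfTransitive :
    ∃ p : ℕ, p.Prime ∧ (∀ x ∈ N, ∀ y ∈ N, x * y = y * x) ∧ ∀ x ∈ N, x ^ p = 1 := by
  have fix_inv : ∀ {x h : G}, h ∈ fixer H x → h ∈ fixer H x⁻¹ := fun {x h} hh => by
    obtain ⟨a, b⟩ := mem_fixer.mp hh
    exact mem_fixer.mpr ⟨a, by rw [show h * x⁻¹ * h⁻¹ = (h * x * h⁻¹)⁻¹ by group, b]⟩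
  have fix_mul : ∀ {x y h : G}, h ∈ fixer H x → h ∈ fixer H y → h ∈ fixer H (x * y) := fun {x y h} hx hy => by
    obtain ⟨a, b⟩ := mem_fixer.mp hx
    obtain ⟨-, d⟩ := mem_fixer.mp hy
    exact mem_fixer.mpr ⟨a, by rw [show h * (x * y) * h⁻¹ = (h * x * h⁻¹) * (h * y * h⁻¹) by group, b, d]⟩
  have diff : ∀ x ∈ N, x ≠ 1 → ∀ y ∈ N, y ≠ 1 → fixer H x ≠ fixer H y → x * y = y * x := by
    intro x hx hx1 y hy hy1 hne'
    by_contra hc
    set c := x * (y * x⁻¹ * y⁻¹) with hcdef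
    have hc1 : c ≠ 1 := fun e => hc (by
      calc x * y = c * (y * x) := by rw [hcdef]; group
        _ = y * x := by rw [e, one_mul])
    have hcN : c ∈ N := N.mul_mem hx (N.mul_mem (N.mul_mem hy (N.inv_mem hx)) (N.inv_mem hy))
    have e1 : fixer H x = fixer H c := by
      refine fixer_eq_of_le hs hx hx1 hcN hc1 fun h hh => fix_mul hh ?_
      rw [fixer_conj hNorm hs hcop (N.inv_mem hx) (inv_ne_one.mpr hx1) hy]
      exact fix_inv hh
    have e2 : fixer H y = fixer H c := by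
      refine fixer_eq_of_le hs hy hy1 hcN hc1 fun h hh => ?_
      rw [show c = (x * y * x⁻¹) * y⁻¹ by rw [hcdef]; group]
      refine fix_mul ?_ (fix_inv hh)
      rw [fixer_conj hNorm hs hcop hy hy1 hx]
      exact hh
    exact hne' (e1.trans e2.symm)
  have comm : ∀ x ∈ N, ∀ y ∈ N, x * y = y * x := by
    intro x hx x' hx'
    by_cases hx1 : x = 1
    · simp [hx1]
    by_cases hx'1 : x' = 1
    · simp [hx'1]
    by_cases he : fixer H x = fixer H x'
    swap
    · exact diff x hx hx1 x' hx' hx'1 he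
    obtain ⟨y, hy, hy1, hyne⟩ := exists_fixer_ne hs hne hfaith hx hx1
    have hz : x' * y ∈ N := N.mul_mem hx' hy
    have hz1 : x' * y ≠ 1 := fun e => hyne (fixer_eq_of_le hs hx hx1 hy hy1 fun h hh => by
      rw [he] at hh
      rw [show y = x'⁻¹ from eq_inv_of_mul_eq_one_right e]
      exact fix_inv hh).symm
    have hzne : fixer H x ≠ fixer H (x' * y) := fun e => hyne (fixer_eq_of_le hs hx hx1 hy hy1 fun h hh => by
      have h1 : h ∈ fixer H x'⁻¹ := fix_inv (he ▸ hh)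
      have h2 : h ∈ fixer H (x' * y) := e ▸ hh
      simpa using fix_mul h1 h2).symm
    have c1 := diff x hx hx1 _ hz hz1 hzne
    have c2 := diff x hx hx1 y hy hy1 (Ne.symm hyne)
    apply mul_right_cancel (b := y)
    calc x * x' * y = x' * y * x := by rw [mul_assoc, c1]
      _ = x' * x * y := by rw [mul_assoc, ← c2, mul_assoc]
  have fix_pow : ∀ {x h : G} (n : ℕ), h ∈ fixer H x → h ∈ fixer H (x ^ n) := fun {x h} n hh => by
    obtain ⟨a, b⟩ := mem_fixer.mp hh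
    exact mem_fixer.mpr ⟨a, by rw [← conj_pow, b]⟩
  have hord : ∀ x ∈ N, x ≠ 1 → ∀ y ∈ N, y ≠ 1 → fixer H x ≠ fixer H y → y ^ orderOf x = 1 := by
    intro x hx hx1 y hy hy1 hne'
    by_contra hyn
    have hxy : x * y ≠ 1 := fun e => hne' (fixer_eq_of_le hs hx hx1 hy hy1 fun h hh => by
      rw [show y = x⁻¹ from eq_inv_of_mul_eq_one_right e]; exact fix_inv hh)
    have hpow : (x * y) ^ orderOf x = y ^ orderOf x := by
      rw [Commute.mul_pow (comm x hx y hy), pow_orderOf_eq_one, one_mul]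
    have e1 : fixer H y = fixer H (y ^ orderOf x) :=
      fixer_eq_of_le hs hy hy1 (N.pow_mem hy _) hyn fun h hh => fix_pow _ hh
    have e2 : fixer H (x * y) = fixer H (y ^ orderOf x) :=
      fixer_eq_of_le hs (N.mul_mem hx hy) hxy (N.pow_mem hy _) hyn fun h hh => hpow ▸ fix_pow _ hh
    refine hne' (fixer_eq_of_le hs hy hy1 hx hx1 fun h hh => ?_).symm
    have h1 : h ∈ fixer H (x * y) := by rw [e2, ← e1]; exact hh
    simpa using fix_mul h1 (fix_inv hh)
  have hne' := hne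
  obtain ⟨z, hz, hz1, -⟩ := hne
  have hall : ∀ x ∈ N, x ≠ 1 → orderOf x = orderOf z := by
    intro x hx hx1
    have hd : ∀ a ∈ N, a ≠ 1 → ∀ b ∈ N, b ≠ 1 → fixer H a ≠ fixer H b → orderOf a = orderOf b :=
      fun a ha ha1 b hb hb1 h => Nat.dvd_antisymm
        (orderOf_dvd_of_pow_eq_one (hord b hb hb1 a ha ha1 (Ne.symm h)))
        (orderOf_dvd_of_pow_eq_one (hord a ha ha1 b hb hb1 h))
    by_cases he : fixer H x = fixer H z
    swap
    · exact hd x hx hx1 z hz hz1 he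
    obtain ⟨y, hy, hy1, hyne⟩ := exists_fixer_ne hs hne' hfaith hx hx1
    exact (hd x hx hx1 y hy hy1 (Ne.symm hyne)).trans (hd y hy hy1 z hz hz1 (he ▸ hyne))
  have hn1 : orderOf z ≠ 1 := fun e => hz1 (orderOf_eq_one_iff.mp e)
  refine ⟨(orderOf z).minFac, Nat.minFac_prime hn1, comm, fun x hx => ?_⟩
  by_cases hx1 : x = 1
  · simp [hx1]
  obtain ⟨d, hd⟩ := Nat.minFac_dvd (orderOf z)
  by_contra hp
  have h1 := hall _ (N.pow_mem hx _) hp
  have h2 : (x ^ (orderOf z).minFac) ^ d = 1 := by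
    rw [← pow_mul, ← hd, ← hall x hx hx1, pow_orderOf_eq_one]
  have h3 := orderOf_dvd_of_pow_eq_one h2
  rw [h1] at h3
  have hd0 : 0 < d := by
    rcases Nat.eq_zero_or_pos d with rfl | h0
    · rw [mul_zero] at hd; exact absurd hd (orderOf_pos z).ne'
    · exact h0
  have := Nat.le_of_dvd hd0 h3
  have := (Nat.minFac_prime hn1).two_le
  nlinarith

end Cfsg.Agent.H66
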