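import Mathlib
import Cfsg.Agent.H61.ThreeCycle

/-!
# Invariant partitions of a 3-group and overgroups inside the alternating group
-/

set_option autoImplicit false
set_option linter.unusedSectionVars false
set_option linter.style.haveILetI false

namespace Cfsg.Agent.H66.ThreeMinimal

open Equiv MulAction
open scoped Pointwise

variable {α : Type*} [Fintype α] [DecidableEq α]

/-- `M` contains every even permutation preserving some nontrivial `P`-invariant equivalence. -/
def ContainsPreservers (P M : Subgroup (Perm α)) : Prop :=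
  ∀ r : Setoid α, (∀ g ∈ P, ∀ a b, r a b → r (g a) (g b)) → (∃ a b, a ≠ b ∧ r a b) →
    (∃ a b, ¬ r a b) → ∀ g : Perm α, Perm.sign g = 1 → (∀ a b, r (g a) (g b) ↔ r a b) → g ∈ M

theorem mem_of_altOn {M : Subgroup (Perm α)} {U V : Finset α} (hU : H61.IsBlk M U)
    (hV : H61.AltOn M V) (hV3 : 3 ≤ V.card) {x y : α} (hxU : x ∈ U) (hxV : x ∈ V) (hy : y ∈ V) :
    y ∈ U := by
  rcases eq_or_ne x y with rfl | hxy
  · exact hxU
  obtain ⟨z, hz⟩ := Finset.card_pos.mp (show 0 < ((V.erase x).erase y).card by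
    rw [Finset.card_erase_of_mem (Finset.mem_erase.mpr ⟨hxy.symm, hy⟩),
      Finset.card_erase_of_mem hxV]; omega)
  simp only [Finset.mem_erase] at hz
  exact (hU.mem_of_cyc hxy (Ne.symm hz.1) (Ne.symm hz.2.1)
    (hV x hxV y hy z hz.2.2 hxy (Ne.symm hz.1) (Ne.symm hz.2.1)) hxU).1

theorem exists_blk_of_altOn {M : Subgroup (Perm α)} {V : Finset α} (hV : H61.AltOn M V)
    (hV3 : 3 ≤ V.card) : ∃ U, H61.IsBlk M U ∧ V ⊆ U := by
  obtain ⟨a, b, c, ha, hb, hc, hab, hac, hbc⟩ :=
    Finset.two_lt_card_iff.mp (show 2 < V.card by omega)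
  obtain ⟨U, hU, haU, -, -⟩ := H61.exists_isBlk hab hbc hac (hV a ha b hb c hc hab hbc hac)
  exact ⟨U, hU, fun y hy => mem_of_altOn hU hV hV3 haU ha hy⟩

theorem alt_le_of_univ {M : Subgroup (Perm α)} {U : Finset α} (hU : H61.AltOn M U)
    (h : ∀ x, x ∈ U) : alternatingGroup α ≤ M := by
  rw [← Perm.closure_three_cycles_eq_alternating, Subgroup.closure_le]
  intro g hg
  obtain ⟨a, b, c, hab, hbc, hac, rfl⟩ := H61.exists_cyc_of_isThreeCycle hg
  exact hU a (h a) b (h b) c (h c) hab hbc hac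

theorem sign_cyc {a b c : α} (hab : a ≠ b) (hbc : b ≠ c) : Perm.sign (H61.cyc a b c) = 1 := by
  rw [H61.cyc, map_mul, Perm.sign_swap hab, Perm.sign_swap hbc]; rfl

/-- The alternating group on a class is contained in `M`. -/
theorem altOn_class {P M : Subgroup (Perm α)} (hM : ContainsPreservers P M) (r : Setoid α)
    (hr : ∀ g ∈ P, ∀ a b, r a b → r (g a) (g b)) (hno : ∃ a b, ¬ r a b) (V : Finset α)
    (hV : ∀ a ∈ V, ∀ b ∈ V, r a b) : H61.AltOn M V := by
  intro a ha b hb c hc hab hbc hac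
  refine hM r hr ⟨a, b, hab, hV a ha b hb⟩ hno _ (sign_cyc hab hbc) ?_
  have key : ∀ x, r (H61.cyc a b c x) x := by
    intro x
    by_cases hxa : x = a
    · subst hxa; rw [H61.cyc_apply_fst hab hac]; exact hV _ hb _ ha
    by_cases hxb : x = b
    · subst hxb; rw [H61.cyc_apply_snd hac hbc]; exact hV _ hc _ hb
    by_cases hxc : x = c
    · subst hxc; rw [H61.cyc_apply_thd]; exact hV _ ha _ hc
    rw [H61.cyc_apply_other hxa hxb hxc]
  exact fun x y => ⟨fun h => r.trans (r.trans (r.symm (key x)) h) (key y),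
    fun h => r.trans (r.trans (key x) h) (r.symm (key y))⟩

section Triples

variable {Q : Type*} [DecidableEq Q]

/-- Shift the fibre above `q₀` by `d` and the fibre above `q₁` back. -/
def shift (q₀ q₁ : Q) (d : Fin 3) (q : Q) : Fin 3 :=
  if q = q₀ then d else if q = q₁ then -d else 0

theorem exists_rotation (q₀ q₁ q₂ : Q) (h01 : q₀ ≠ q₁) (h12 : q₁ ≠ q₂) (h02 : q₀ ≠ q₂) (d : Fin 3) :
    ∃ g : Perm (Q × Fin 3), g ^ 3 = 1 ∧ (∀ x y : Q × Fin 3, (g x).1 = (g y).1 ↔ x.1 = y.1) ∧
      (∀ j, g (q₀, j) = (q₁, j + d)) ∧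
      ∀ x : Q × Fin 3, x.1 ≠ q₀ → x.1 ≠ q₁ → x.1 ≠ q₂ → g x = x := by
  classical
  let σ : Perm Q := H61.cyc q₀ q₁ q₂
  let f : Q × Fin 3 → Q × Fin 3 := fun x => (σ x.1, x.2 + shift q₀ q₁ d x.1)
  have hf : ∀ x, f (f (f x)) = x := by
    rintro ⟨q, j⟩
    have e0 : σ q₀ = q₁ := H61.cyc_apply_fst h01 h02
    have e1 : σ q₁ = q₂ := H61.cyc_apply_snd h02 h12
    have e2 : σ q₂ = q₀ := H61.cyc_apply_thd _ _ _
    by_cases h0 : q = q₀
    · subst h0
      simp only [f, e0, e1, e2, shift, if_true, h01.symm, h02.symm, h12.symm, if_false]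
      simp
    by_cases h1 : q = q₁
    · subst h1
      simp only [f, e0, e1, e2, shift, if_true, h01.symm, h02.symm, h12.symm, if_false]
      simp
    by_cases h2 : q = q₂
    · subst h2
      simp only [f, e0, e1, e2, shift, if_true, h01.symm, h02.symm, h12.symm, if_false]
      simp
    have e : σ q = q := H61.cyc_apply_other h0 h1 h2
    simp [f, e, shift, h0, h1]
  refine ⟨⟨f, f ∘ f, hf, hf⟩, ?_, fun x y => σ.injective.eq_iff, fun j => ?_, fun x a b c => ?_⟩
  · ext x : 1; exact hf x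
  · simp [f, σ, H61.cyc_apply_fst h01 h02, shift]
  · simp [f, σ, H61.cyc_apply_other a b c, shift, a, b]

end Triples

/-- An alternating set of size at least nine and an invariant partition into triples suffice. -/
theorem hub {P M : Subgroup (Perm α)} (hM : ContainsPreservers P M) (r : Setoid α)
    [DecidableRel r.r] (hr : ∀ g ∈ P, ∀ a b, r a b → r (g a) (g b))
    (h3 : ∀ a, (Finset.univ.filter fun b => r a b).card = 3) {V : Finset α}
    (hV : H61.AltOn M V) (h9 : 9 ≤ V.card) : alternatingGroup α ≤ M := by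
  classical
  obtain ⟨U, hU, hVU⟩ := exists_blk_of_altOn hV (by omega)
  have hU9 : 9 ≤ U.card := h9.trans (Finset.card_le_card hVU)
  refine alt_le_of_univ hU.2.1 fun y => ?_
  by_contra hy
  let mk : α → Quotient r := Quotient.mk r
  have hfib : ∀ q : Quotient r, Fintype.card {a // mk a = q} = 3 := by
    intro q
    induction q using Quotient.inductionOn with
    | h a =>
      rw [Fintype.card_subtype, ← h3 a]
      congr 1
      ext b
      simp only [Finset.mem_filter, Finset.mem_univ, true_and]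
      exact ⟨fun h => r.symm (Quotient.exact h), fun h => Quotient.sound (r.symm h)⟩
  let e : α ≃ Quotient r × Fin 3 :=
    (Equiv.sigmaFiberEquiv mk).symm.trans ((Equiv.sigmaCongrRight fun q =>
      Fintype.equivFinOfCardEq (hfib q)).trans (Equiv.sigmaEquivProd _ _))
  have he : ∀ a, (e a).1 = mk a := fun a => rfl
  have hcls : ∀ q, (Finset.univ.filter fun a => mk a = q).card = 3 := fun q => by
    rw [← Fintype.card_subtype]; exact hfib q
  have pick : ∀ S : Finset α, S.card < U.card → ∃ x ∈ U, x ∉ S := fun S hS =>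
    Finset.exists_mem_notMem_of_card_lt_card hS
  set C : Quotient r → Finset α := fun q => Finset.univ.filter fun a => mk a = q with hC
  have memC : ∀ {a q}, a ∈ C q ↔ mk a = q := fun {a q} => by simp [hC]
  obtain ⟨x, hx, hxy⟩ := pick (C (mk y)) (by rw [hC]; dsimp only; rw [hcls]; omega)
  rw [memC] at hxy
  obtain ⟨w, -, hw⟩ := pick (C (mk x) ∪ C (mk y))
    (lt_of_le_of_lt (Finset.card_union_le _ _) (by rw [hC]; dsimp only; rw [hcls, hcls]; omega))
  simp only [Finset.mem_union, memC, not_or] at hw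
  set q₀ := mk x with hq₀
  set q₁ := mk y with hq₁
  set q₂ := mk w with hq₂
  have hT : ∃ T : Finset α, T.card < U.card ∧ C q₀ ⊆ T ∧ C q₁ ∩ U ⊆ T ∧ C q₂ ⊆ T := by
    refine ⟨C q₀ ∪ (C q₁).erase y ∪ C q₂, ?_, ?_, ?_, ?_⟩
    · refine lt_of_le_of_lt ((Finset.card_union_le _ _).trans
        (Nat.add_le_add_right (Finset.card_union_le _ _) _)) ?_
      rw [Finset.card_erase_of_mem (memC.mpr rfl), hC]
      dsimp only
      rw [hcls, hcls, hcls]
      omega
    · exact Finset.subset_union_left.trans Finset.subset_union_left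
    · intro a ha
      rw [Finset.mem_inter] at ha
      exact Finset.mem_union_left _ (Finset.mem_union_right _
        (Finset.mem_erase.mpr ⟨fun h => hy (h ▸ ha.2), ha.1⟩))
    · exact Finset.subset_union_right
  obtain ⟨T, hT, t0, t1, t2⟩ := hT
  obtain ⟨z, hzU, hz⟩ := pick T (by omega)
  obtain ⟨v, hvU, hv⟩ := pick {x, z} (lt_of_le_of_lt Finset.card_le_two (by omega))
  simp only [Finset.mem_insert, Finset.mem_singleton, not_or] at hv
  obtain ⟨g, g3, gfst, g0, gfix⟩ :=
    exists_rotation q₀ q₁ q₂ (Ne.symm (fun h => hxy h.symm)) (Ne.symm hw.2) (Ne.symm hw.1)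
      ((e y).2 - (e x).2)
  let g' : Perm α := e.symm.permCongr g
  have g'app : ∀ a, g' a = e.symm (g (e a)) := fun a => rfl
  have g'3 : g' ^ 3 = 1 := by
    ext a
    have := congrArg (fun f : Perm (Quotient r × Fin 3) => f (e a)) g3
    simp only [pow_succ, pow_zero, one_mul, Perm.mul_apply, Perm.one_apply] at this ⊢
    simp [g'app, this]
  have hg'M : g' ∈ M := by
    refine hM r hr ?_ ⟨x, y, fun h => hxy (Quotient.sound h)⟩ g' ?_ ?_
    · obtain ⟨b, hb, hb'⟩ := Finset.exists_mem_notMem_of_card_lt_card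
        (show ({x} : Finset α).card < (Finset.univ.filter fun b => r x b).card by
          rw [h3]; simp)
      simp only [Finset.mem_filter, Finset.mem_univ, true_and, Finset.mem_singleton] at hb hb'
      exact ⟨x, b, Ne.symm hb', hb⟩
    · have := congrArg Perm.sign g'3
      rwa [map_pow, map_one, pow_succ, Int.units_sq, one_mul] at this
    · intro a b
      constructor
      · intro h
        have h' : mk (g' a) = mk (g' b) := Quotient.sound h
        rw [← he, ← he, g'app, g'app, e.apply_symm_apply, e.apply_symm_apply, gfst, he, he] at h'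
        exact Quotient.exact h'
      · intro h
        have h' : mk a = mk b := Quotient.sound h
        rw [← he, ← he, ← gfst] at h'
        refine Quotient.exact (show mk (g' a) = mk (g' b) from ?_)
        rw [← he, ← he, g'app, g'app, e.apply_symm_apply, e.apply_symm_apply]
        exact h'
  have hgx : g' x = y := by
    rw [g'app, show e x = (q₀, (e x).2) from Prod.ext (he x) rfl, g0, add_sub_cancel]
    exact (e.symm_apply_eq).mpr (Prod.ext (he y).symm rfl)
  have hgz : g' z = z := by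
    rw [g'app, gfix]
    · exact e.symm_apply_apply z
    all_goals rw [he]
    · exact fun h => hz (t0 (memC.mpr h))
    · exact fun h => hz (t1 (Finset.mem_inter.mpr ⟨memC.mpr h, hzU⟩))
    · exact fun h => hz (t2 (memC.mpr h))
  have hzx : z ≠ x := fun h => hz (t0 (memC.mpr (by rw [h])))
  have hc := hU.2.1 z hzU x hx v hvU hzx (Ne.symm hv.1) (Ne.symm hv.2)
  have hc' := M.mul_mem (M.mul_mem hg'M hc) (M.inv_mem hg'M)
  rw [H61.conj_cyc, hgz, hgx] at hc'
  refine hy (hU.mem_of_cyc ?_ ?_ ?_ hc' hzU).1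
  · exact fun h => hy (h ▸ hzU)
  · rw [← hgx]; exact g'.injective.ne (Ne.symm hv.1)
  · conv_lhs => rw [← hgz]
    exact g'.injective.ne (Ne.symm hv.2)

section Blocks

variable {P : Subgroup (Perm α)}

theorem exists_block (hP : IsPGroup 3 P) (a : α) {j k : ℕ} (hk : (orbit P a).ncard = 3 ^ k)
    (hj : j ≤ k) : ∃ B : Set α, a ∈ B ∧ B ⊆ orbit P a ∧ IsBlock P B ∧ B.ncard = 3 ^ j := by
  haveI : Fact (Nat.Prime 3) := ⟨Nat.prime_three⟩
  obtain ⟨s, hs⟩ := IsPGroup.iff_card.mp (hP.to_subgroup (stabilizer P a))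
  have hcard : Nat.card P = 3 ^ (s + k) := by
    rw [← (stabilizer P a).card_mul_index, index_stabilizer, hs, hk, pow_add]
  obtain ⟨K, hK, hle⟩ := Sylow.exists_subgroup_card_pow_prime_le (G := P) 3 (m := s + j)
    (hcard ▸ pow_dvd_pow 3 (by omega)) (stabilizer P a) hs (by omega)
  refine ⟨orbit K a, mem_orbit_self a, ?_, IsBlock.of_orbit hle, ?_⟩
  · rintro _ ⟨g, rfl⟩; exact mem_orbit a (g : P)
  · have h1 : Nat.card (stabilizer K a) = 3 ^ s := by
      rw [← hs]
      exact Nat.card_congr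
        { toFun := fun g => ⟨(g : K), g.2⟩
          invFun := fun g => ⟨⟨g, hle g.2⟩, g.2⟩
          left_inv := fun _ => rfl
          right_inv := fun _ => rfl }
    have h2 := (stabilizer K a).card_mul_index
    rw [index_stabilizer, h1, hK, pow_add] at h2
    exact Nat.eq_of_mul_eq_mul_left (pow_pos (by norm_num) s) h2

/-- Translates of one block in each of (at most) two orbits form an invariant equivalence. -/
theorem exists_setoid {a₁ a₂ : α} {B₁ B₂ : Set α} (h1 : a₁ ∈ B₁) (h2 : a₂ ∈ B₂)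
    (s1 : B₁ ⊆ orbit P a₁) (s2 : B₂ ⊆ orbit P a₂) (b1 : IsBlock P B₁) (b2 : IsBlock P B₂)
    (hcov : ∀ x, x ∈ orbit P a₁ ∨ x ∈ orbit P a₂)
    (hsame : B₁ = B₂ ∨ a₂ ∉ orbit P a₁) :
    ∃ r : Setoid α, (∀ g ∈ P, ∀ a b, r a b → r (g a) (g b)) ∧
      ∀ a, ∃ B : Set α, (B = B₁ ∨ B = B₂) ∧ ∃ g : P, ∀ b, r a b ↔ b ∈ g • B := by
  have sub : ∀ (c : α) (B : Set α) (g : P), B ⊆ orbit P c → g • B ⊆ orbit P c := by
    intro c B g hB
    rw [← smul_orbit g c]
    exact Set.smul_set_mono hB
  have meet : ∀ (g g' : P) (B B' : Set α) (x : α), (B = B₁ ∨ B = B₂) → (B' = B₁ ∨ B' = B₂) →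
      x ∈ g • B → x ∈ g' • B' → g • B = g' • B' := by
    intro g g' B B' x hB hB' hx hx'
    have aux : ∀ (B : Set α), IsBlock P B → x ∈ g • B → x ∈ g' • B → g • B = g' • B :=
      fun B hb hx hx' => by
        by_contra hne
        exact Set.disjoint_left.mp (hb hne) hx hx'
    have cross : x ∈ orbit P a₁ → x ∈ orbit P a₂ → B₁ = B₂ := fun m1 m2 => by
      refine hsame.resolve_right (not_not.mpr ?_)
      rw [← orbit_eq_iff.mpr m1, orbit_eq_iff.mpr m2]
      exact mem_orbit_self a₂
    rcases hB with rfl | rfl <;> rcases hB' with rfl | rfl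
    · exact aux _ b1 hx hx'
    · have e := cross (sub _ _ g s1 hx) (sub _ _ g' s2 hx')
      subst e; exact aux _ b1 hx hx'
    · have e := cross (sub _ _ g' s1 hx') (sub _ _ g s2 hx)
      subst e; exact aux _ b1 hx hx'
    · exact aux _ b2 hx hx'
  have cover : ∀ x : α, ∃ B : Set α, (B = B₁ ∨ B = B₂) ∧ ∃ g : P, x ∈ g • B := by
    intro x
    rcases hcov x with ⟨g, rfl⟩ | ⟨g, rfl⟩
    · exact ⟨B₁, Or.inl rfl, g, Set.smul_mem_smul_set h1⟩
    · exact ⟨B₂, Or.inr rfl, g, Set.smul_mem_smul_set h2⟩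
  let rel : α → α → Prop := fun a b =>
    ∃ B : Set α, (B = B₁ ∨ B = B₂) ∧ ∃ g : P, a ∈ g • B ∧ b ∈ g • B
  refine ⟨⟨rel, ⟨fun x => ?_, ?_, ?_⟩⟩, ?_, fun a => ?_⟩
  · obtain ⟨B, hB, g, hg⟩ := cover x; exact ⟨B, hB, g, hg, hg⟩
  · rintro x y ⟨B, hB, g, h, h'⟩; exact ⟨B, hB, g, h', h⟩
  · rintro x y z ⟨B, hB, g, h, h'⟩ ⟨B', hB', g', k, k'⟩
    exact ⟨B, hB, g, h, (meet g g' B B' y hB hB' h' k).symm ▸ k'⟩
  · rintro g hg a b ⟨B, hB, g', h, h'⟩
    refine ⟨B, hB, ⟨g, hg⟩ * g', ?_, ?_⟩ <;> rw [mul_smul]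
    · exact Set.smul_mem_smul_set h
    · exact Set.smul_mem_smul_set h'
  · obtain ⟨B, hB, g, hg⟩ := cover a
    refine ⟨B, hB, g, fun b => ⟨?_, fun hb => ⟨B, hB, g, hg, hb⟩⟩⟩
    rintro ⟨B', hB', g', h, h'⟩
    rwa [meet g g' B B' a hB hB' hg h]

theorem class_card {r : Setoid α} [DecidableRel r.r] {m : ℕ} {a : α} {B : Set α} {g : P}
    (h : ∀ b, r a b ↔ b ∈ g • B) (hB : B.ncard = m) :
    (Finset.univ.filter fun b => r a b).card = m := by
  rw [← Set.ncard_coe_finset, ← hB, ← Set.ncard_smul_set g B]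
  congr 1
  ext b
  simp [h b]

end Blocks

/-- Too many overgroups: `M` contains the alternating group. -/
theorem alternating_le {P M : Subgroup (Perm α)} (hP : IsPGroup 3 P) (hn : 5 ≤ Fintype.card α)
    (h6 : Fintype.card α ≠ 6) (h9 : Fintype.card α ≠ 9)
    (h1 : ∀ a : ℕ, 2 ≤ a → Fintype.card α ≠ 3 ^ a + 1)
    (hM : ContainsPreservers P M) : alternatingGroup α ≤ M := by
  classical
  haveI : Fact (Nat.Prime 3) := ⟨Nat.prime_three⟩
  have hsize : ∀ a : α, ∃ k : ℕ, (orbit P a).ncard = 3 ^ k := fun a => by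
    rw [← Nat.card_coe_set_eq]; exact hP.card_orbit a
  -- the two-class partition of an invariant set
  let two : Set α → Setoid α := fun O =>
    ⟨fun x y => x ∈ O ↔ y ∈ O, ⟨fun _ => Iff.rfl, fun h => h.symm, fun h h' => h.trans h'⟩⟩
  have htwo : ∀ c : α, ∀ g ∈ P, ∀ x y, two (orbit P c) x y → two (orbit P c) (g x) (g y) := by
    intro c g hg x y h
    have key : ∀ z, g z ∈ orbit P c ↔ z ∈ orbit P c := fun z =>
      ⟨fun hz => by
        rw [← orbit_eq_iff.mpr hz]
        exact ⟨(⟨g, hg⟩ : P)⁻¹, inv_smul_smul (⟨g, hg⟩ : P) z⟩,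
      fun hz => by
        rw [← orbit_eq_iff.mpr hz]
        exact mem_orbit z (⟨g, hg⟩ : P)⟩
    exact (key x).trans (h.trans (key y).symm)
  obtain ⟨a⟩ : Nonempty α := Fintype.card_pos_iff.mp (by omega)
  obtain ⟨k, hk⟩ := hsize a
  by_cases hone : ∀ x, x ∈ orbit P a
  · -- a single orbit
    have hnk : Fintype.card α = 3 ^ k := by
      rw [← hk, Set.eq_univ_of_forall hone, Set.ncard_univ, Nat.card_eq_fintype_card]
    have hk3 : 3 ≤ k := by
      by_contra! hlt
      interval_cases k <;> simp at hnk <;> omega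
    obtain ⟨B, hB, hBs, hBb, hBc⟩ := exists_block hP a hk (show 1 ≤ k by omega)
    obtain ⟨D, hD, hDs, hDb, hDc⟩ := exists_block hP a hk (show k - 1 ≤ k by omega)
    obtain ⟨r, hr, hr'⟩ :=
      exists_setoid hB hB hBs hBs hBb hBb (fun x => Or.inl (hone x)) (Or.inl rfl)
    obtain ⟨q, hq, hq'⟩ :=
      exists_setoid hD hD hDs hDs hDb hDb (fun x => Or.inl (hone x)) (Or.inl rfl)
    obtain ⟨D', hD', g, hg⟩ := hq' a
    have hDc' : (Finset.univ.filter fun b => q a b).card = 3 ^ (k - 1) :=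
      class_card hg (by rcases hD' with rfl | rfl <;> exact hDc)
    have h9' : 9 ≤ 3 ^ (k - 1) := by
      calc 9 = 3 ^ 2 := rfl
        _ ≤ 3 ^ (k - 1) := Nat.pow_le_pow_right (by norm_num) (by omega)
    refine hub hM r hr (fun x => ?_) (V := Finset.univ.filter fun b => q a b) ?_ (hDc' ▸ h9')
    · obtain ⟨B', hB', g, hg⟩ := hr' x
      exact class_card hg (by rcases hB' with rfl | rfl <;> exact hBc)
    · refine altOn_class hM q hq ?_ _ fun x hx y hy => ?_
      · by_contra! hall
        have : (Finset.univ.filter fun b => q a b).card = Fintype.card α := by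
          rw [Finset.filter_true_of_mem (fun b _ => hall a b), Finset.card_univ]
        rw [hDc', hnk] at this
        have := Nat.pow_right_injective (le_of_eq_of_le rfl (by norm_num : 2 ≤ 3)) this
        omega
      · simp only [Finset.mem_filter, Finset.mem_univ, true_and] at hx hy
        exact q.trans (q.symm hx) hy
  push Not at hone
  obtain ⟨b, hb⟩ := hone
  obtain ⟨l, hl⟩ := hsize b
  have hdisj : ∀ x, x ∈ orbit P a → x ∉ orbit P b := fun x h h' => hb (by
    rw [← orbit_eq_iff.mpr h, orbit_eq_iff.mpr h']; exact mem_orbit_self b)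
  by_cases htwo' : ∀ x, x ∈ orbit P a ∨ x ∈ orbit P b
  · -- two orbits
    have hsum : Fintype.card α = 3 ^ k + 3 ^ l := by
      rw [← hk, ← hl, ← Set.ncard_union_eq (Set.disjoint_left.mpr hdisj),
        Set.eq_univ_of_forall (fun x => Set.mem_union _ _ _ |>.mpr (htwo' x)), Set.ncard_univ,
        Nat.card_eq_fintype_card]
    have hk1 : 1 ≤ k := by
      by_contra! h
      interval_cases k
      have hl2 : 2 ≤ l := by
        by_contra! h
        interval_cases l <;> simp at hsum <;> omega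
      exact h1 l hl2 (by rw [hsum]; ring)
    have hl1 : 1 ≤ l := by
      by_contra! h
      interval_cases l
      have hk2 : 2 ≤ k := by
        by_contra! h
        interval_cases k <;> simp at hsum <;> omega
      exact h1 k hk2 (by rw [hsum]; ring)
    obtain ⟨B, hB, hBs, hBb, hBc⟩ := exists_block hP a hk hk1
    obtain ⟨D, hD, hDs, hDb, hDc⟩ := exists_block hP b hl hl1
    obtain ⟨r, hr, hr'⟩ := exists_setoid hB hD hBs hDs hBb hDb htwo' (Or.inr hb)
    have h3 : ∀ x, (Finset.univ.filter fun y => r x y).card = 3 := fun x => by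
      obtain ⟨B', hB', g, hg⟩ := hr' x
      exact class_card hg (by rcases hB' with rfl | rfl <;> simp [hBc, hDc])
    have key : ∀ c : α, (∃ z, z ∉ orbit P c) →
        H61.AltOn M (Finset.univ.filter fun x => x ∈ orbit P c) := by
      intro c hz
      obtain ⟨z, hz⟩ := hz
      refine altOn_class hM (two (orbit P c)) (htwo c)
        ⟨c, z, fun h => hz (h.mp (mem_orbit_self c))⟩ _ fun x hx y hy => ?_
      simp only [Finset.mem_filter, Finset.mem_univ, true_and] at hx hy
      exact iff_of_true hx hy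
    have hcardO : ∀ (c : α) (m : ℕ), (orbit P c).ncard = 3 ^ m →
        (Finset.univ.filter fun x => x ∈ orbit P c).card = 3 ^ m := fun c m h => by
      rw [← h, ← Set.ncard_coe_finset]; congr 1; ext; simp
    by_cases hk2 : 2 ≤ k
    · refine hub hM r hr h3 (key a ⟨b, hb⟩) ?_
      rw [hcardO a k hk]
      calc 9 = 3 ^ 2 := rfl
        _ ≤ 3 ^ k := Nat.pow_le_pow_right (by norm_num) hk2
    · have hl2 : 2 ≤ l := by
        by_contra! h
        have : k = 1 := by omega
        have : l = 1 := by omega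
        subst k l
        exact h6 (by rw [hsum]; rfl)
      refine hub hM r hr h3 (key b ⟨a, fun h => hdisj a (mem_orbit_self a) h⟩) ?_
      rw [hcardO b l hl]
      calc 9 = 3 ^ 2 := rfl
        _ ≤ 3 ^ l := Nat.pow_le_pow_right (by norm_num) hl2
  -- at least three orbits
  push Not at htwo'
  obtain ⟨c, hca, hcb⟩ := htwo'
  let comp : α → Finset α := fun x => Finset.univ.filter fun y => y ∉ orbit P x
  have hmem : ∀ {x y}, y ∈ comp x ↔ y ∉ orbit P x := fun {x y} => by simp [comp]
  have hsym : ∀ x y : α, y ∉ orbit P x → x ∉ orbit P y := fun x y h h' => h (by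
    rw [orbit_eq_iff.mpr h']; exact mem_orbit_self y)
  have two_of_three : ∀ x y : α, y ∉ orbit P x → (comp x).card < 3 → (comp y).card < 3 → False := by
    intro x y hxy hx hy
    have hu : (Finset.univ : Finset α) ⊆ comp x ∪ comp y := by
      intro z _
      rw [Finset.mem_union, hmem, hmem]
      by_contra! hz
      exact hxy (by rw [← orbit_eq_iff.mpr hz.1, orbit_eq_iff.mpr hz.2]; exact mem_orbit_self y)
    have := (Finset.card_le_card hu).trans (Finset.card_union_le _ _)
    rw [Finset.card_univ] at this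
    omega
  have main : ∀ x y z : α, y ∉ orbit P x → z ∉ orbit P x → z ∉ orbit P y →
      3 ≤ (comp x).card → 3 ≤ (comp y).card → alternatingGroup α ≤ M := by
    intro x y z hxy hxz hyz hcx hcy
    have halt : ∀ w, (∃ w', w' ∉ orbit P w) → H61.AltOn M (comp w) := by
      intro w hw
      obtain ⟨w', hw'⟩ := hw
      refine altOn_class hM (two (orbit P w)) (htwo w)
        ⟨w, w', fun h => hw' (h.mp (mem_orbit_self w))⟩ _ fun u hu v hv => ?_
      rw [hmem] at hu hv
      exact iff_of_false hu hv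
    have hx' := halt x ⟨y, hxy⟩
    have hy' := halt y ⟨x, hsym x y hxy⟩
    obtain ⟨U, hU, hsub⟩ := exists_blk_of_altOn hx' hcx
    refine alt_le_of_univ hU.2.1 fun w => ?_
    by_cases hw : w ∈ orbit P x
    · refine mem_of_altOn hU hy' hcy (hsub (hmem.mpr hxz)) (hmem.mpr hyz) (hmem.mpr fun h => hxy ?_)
      rw [← orbit_eq_iff.mpr hw, orbit_eq_iff.mpr h]; exact mem_orbit_self y
    · exact hsub (hmem.mpr hw)
  by_cases ha3 : (comp a).card < 3
  · exact main b c a hcb (hsym a b hb) (hsym a c hca)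
      (not_lt.mp fun h => two_of_three a b hb ha3 h) (not_lt.mp fun h => two_of_three a c hca ha3 h)
  by_cases hb3 : (comp b).card < 3
  · exact main a c b hca hb (hsym b c hcb) (not_lt.mp ha3)
      (not_lt.mp fun h => two_of_three b c hcb hb3 h)
  exact main a b c hb hca hcb (not_lt.mp ha3) (not_lt.mp hb3)

end Cfsg.Agent.H66.ThreeMinimal
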