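import Cfsg.Agent.H66.ThreeMinimal
import Cfsg.Agent.H77.AutAlt
import Cfsg.Agent.Components.Basic

/-!
# Automorphisms of 3-power order of alternating groups, and preservers of a partition
-/

set_option autoImplicit false
set_option linter.style.haveILetI false

namespace Cfsg.Agent.H66.ThreeMinimal

open Equiv

theorem six_counts :
    (Finset.univ.filter fun x : Perm (Fin 6) => (∀ i, x (x (x i)) = i) ∧
      (Finset.univ.filter fun i => x i ≠ i).card = 3).card = 40 ∧
    (Finset.univ.filter fun x : Perm (Fin 6) => (∀ i, x (x (x i)) = i) ∧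
      (Finset.univ.filter fun i => x i ≠ i).card = 6).card = 40 ∧
    ∀ x : Perm (Fin 6), (∀ i, x (x (x i)) = i) →
      (Finset.univ.filter fun i => x i ≠ i).card = 0 ∨
      (Finset.univ.filter fun i => x i ≠ i).card = 3 ∨
      (Finset.univ.filter fun i => x i ≠ i).card = 6 := by
  refine ⟨?_, ?_, ?_⟩ <;> decide +kernel

/-- An automorphism of 3-power order maps 3-cycles to 3-cycles. -/
theorem preserves_of_pow {n : ℕ} (hn : 5 ≤ n) (φ : MulAut ↥(alternatingGroup (Fin n))) {k : ℕ}
    (hφ : φ ^ 3 ^ k = 1) (x : alternatingGroup (Fin n)) (hx : (x : Perm (Fin n)).IsThreeCycle) :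
    (φ x : Perm (Fin n)).IsThreeCycle := by
  classical
  by_cases h6 : n = 6
  · subst h6
    by_contra hbad
    have hcube : ∀ y : Perm (Fin 6), y ^ 3 = 1 → ∀ i, y (y (y i)) = i := fun y hy i => by
      simpa [pow_succ] using congrArg (fun f : Perm (Fin 6) => f i) hy
    have hsupp : ∀ y : Perm (Fin 6), (Finset.univ.filter fun i => y i ≠ i) = y.support := fun y => by
      ext i; simp
    let A := alternatingGroup (Fin 6)
    let T : Finset A := Finset.univ.filter fun y =>
      (∀ i, (y : Perm (Fin 6)) ((y : Perm (Fin 6)) ((y : Perm (Fin 6)) i)) = i) ∧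
      (Finset.univ.filter fun i => (y : Perm (Fin 6)) i ≠ i).card = 3
    let U : Finset A := Finset.univ.filter fun y =>
      (∀ i, (y : Perm (Fin 6)) ((y : Perm (Fin 6)) ((y : Perm (Fin 6)) i)) = i) ∧
      (Finset.univ.filter fun i => (y : Perm (Fin 6)) i ≠ i).card = 6
    have hmem : ∀ y : Perm (Fin 6), (∀ i, y (y (y i)) = i) → y ∈ A := fun y hy => by
      have h3 : y ^ 3 = 1 := by ext i : 1; simpa [pow_succ] using hy i
      have := congrArg Perm.sign h3
      rwa [map_pow, map_one, pow_succ, Int.units_sq, one_mul] at this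
    obtain ⟨c3, c6, c0⟩ := six_counts
    have hT : T.card = 40 := by
      rw [← c3]
      refine Finset.card_bij (fun y _ => (y : Perm (Fin 6))) ?_ ?_ ?_
      · intro y hy; simpa [T] using hy
      · intro y _ z _ h; exact Subtype.ext h
      · intro y hy
        simp only [Finset.mem_filter, Finset.mem_univ, true_and] at hy
        exact ⟨⟨y, hmem y hy.1⟩, by simpa [T] using hy, rfl⟩
    have hU : U.card = 40 := by
      rw [← c6]
      refine Finset.card_bij (fun y _ => (y : Perm (Fin 6))) ?_ ?_ ?_
      · intro y hy; simpa [U] using hy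
      · intro y _ z _ h; exact Subtype.ext h
      · intro y hy
        simp only [Finset.mem_filter, Finset.mem_univ, true_and] at hy
        exact ⟨⟨y, hmem y hy.1⟩, by simpa [U] using hy, rfl⟩
    have hT3 : ∀ y : A, y ∈ T ↔ (y : Perm (Fin 6)).IsThreeCycle := fun y => by
      simp only [T, Finset.mem_filter, Finset.mem_univ, true_and, hsupp]
      constructor
      · exact fun h => card_support_eq_three_iff.mp h.2
      · intro h
        exact ⟨hcube _ (h.orderOf ▸ pow_orderOf_eq_one (y : Perm (Fin 6))), h.card_support⟩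
    have hTo : ∀ y ∈ T, φ y ∈ U := by
      intro y hy
      obtain ⟨d, hd⟩ := isConj_iff.mp
        (alternatingGroup.isThreeCycle_isConj (by simp) hx ((hT3 y).mp hy))
      have h3 : (φ y : Perm (Fin 6)) ^ 3 = 1 := by
        have h1 : (y : Perm (Fin 6)) ^ 3 = 1 :=
          ((hT3 y).mp hy).orderOf ▸ pow_orderOf_eq_one (y : Perm (Fin 6))
        have h1' : y ^ 3 = 1 := Subtype.ext (by push_cast; exact h1)
        have := congrArg (fun w : A => (w : Perm (Fin 6))) ((map_pow φ y 3).symm.trans (by rw [h1', map_one]))
        simpa using this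
      simp only [U, Finset.mem_filter, Finset.mem_univ, true_and]
      refine ⟨hcube _ h3, ?_⟩
      rcases c0 _ (hcube _ h3) with h | h | h
      · exfalso
        rw [hsupp, Finset.card_eq_zero, Perm.support_eq_empty_iff] at h
        have : φ y = 1 := Subtype.ext h
        rw [map_eq_one_iff _ φ.injective] at this
        exact ((hT3 y).mp hy).ne_one (congrArg Subtype.val this)
      · exfalso
        rw [hsupp, card_support_eq_three_iff] at h
        refine hbad ?_
        rw [← hd, map_mul, map_mul, map_inv] at h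
        have hconj : IsConj (φ d * φ x * (φ d)⁻¹ : Perm (Fin 6)) (φ x : Perm (Fin 6)) :=
          (isConj_iff.mpr ⟨(φ d : Perm (Fin 6)), by simp⟩).symm
        unfold Perm.IsThreeCycle at h ⊢
        rw [Perm.isConj_iff_cycleType_eq] at hconj
        rw [← hconj]
        simpa using h
      · exact h
    have hsurj : T.image φ = U := by
      refine Finset.eq_of_subset_of_card_le (fun y hy => ?_) ?_
      · obtain ⟨z, hz, rfl⟩ := Finset.mem_image.mp hy; exact hTo z hz
      · rw [Finset.card_image_of_injective _ φ.injective, hT, hU]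
    have hback : ∀ y ∈ U, φ y ∈ T := by
      intro y hy
      simp only [U, Finset.mem_filter, Finset.mem_univ, true_and] at hy
      have h1 : y ^ 3 = 1 := Subtype.ext (by ext i; simpa [pow_succ] using congrArg Fin.val (hy.1 i))
      have h2 : (φ y : Perm (Fin 6)) ^ 3 = 1 := by
        rw [← Subgroup.coe_pow, ← map_pow, h1, map_one]; rfl
      have h2' := hcube _ h2
      rcases c0 _ h2' with h | h | h
      · exfalso
        rw [hsupp, Finset.card_eq_zero, Perm.support_eq_empty_iff] at h
        have : φ y = 1 := Subtype.ext h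
        rw [map_eq_one_iff _ φ.injective] at this
        rw [this] at hy
        simp at hy
      · simp only [T, Finset.mem_filter, Finset.mem_univ, true_and]; exact ⟨h2', h⟩
      · exfalso
        have : φ y ∈ U := by
          simp only [U, Finset.mem_filter, Finset.mem_univ, true_and]; exact ⟨h2', h⟩
        rw [← hsurj, Finset.mem_image] at this
        obtain ⟨z, hz, hzy⟩ := this
        rw [φ.injective hzy] at hz
        simp only [T, Finset.mem_filter, Finset.mem_univ, true_and] at hz
        omega
    have hpar : ∀ m : ℕ, ∀ y ∈ T, (φ ^ (2 * m)) y ∈ T := by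
      intro m
      induction m with
      | zero => intro y hy; simpa using hy
      | succ m ih =>
        intro y hy
        rw [show 2 * (m + 1) = (1 + 1) + 2 * m by ring, pow_add, pow_succ, pow_one]
        exact hback _ (hTo _ (ih y hy))
    obtain ⟨m, hm⟩ : Odd (3 ^ k) := Odd.pow (by decide)
    have hx' : x ∈ T := (hT3 x).mpr hx
    have := hTo _ (hpar m x hx')
    rw [show φ ((φ ^ (2 * m)) x) = (φ ^ (2 * m + 1)) x by rw [pow_succ']; rfl, ← hm, hφ] at this
    simp only [U, T, Finset.mem_filter, Finset.mem_univ, true_and, MulAut.one_apply] at this hx'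
    omega
  · obtain ⟨g, rfl⟩ := (Cfsg.Agent.S2119.result n (by omega) h6).2 φ
    rw [MulAut.conjNormal_apply]
    unfold Perm.IsThreeCycle at hx ⊢
    rwa [Perm.cycleType_conj]

/-- The permutations preserving an equivalence. -/
def preserver {α : Type*} (r : Setoid α) : Subgroup (Perm α) where
  carrier := {g | ∀ a b, r (g a) (g b) ↔ r a b}
  mul_mem' := fun {g h} hg hh a b => (hg (h a) (h b)).trans (hh a b)
  one_mem' := fun a b => Iff.rfl
  inv_mem' := fun {g} hg a b => by
    rw [← hg (g⁻¹ a) (g⁻¹ b)]
    simp

theorem not_alt_le_preserver {α : Type*} [Fintype α] [DecidableEq α] (hn : 5 ≤ Fintype.card α)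
    (r : Setoid α) (h1 : ∃ a b, a ≠ b ∧ r a b) (h2 : ∃ a b, ¬ r a b) :
    ¬ alternatingGroup α ≤ preserver r := by
  intro h
  obtain ⟨a, b, hab, hr⟩ := h1
  obtain ⟨c, hc⟩ : ∃ c, ¬ r a c := by
    by_contra! hall
    obtain ⟨u, v, huv⟩ := h2
    exact huv (r.trans (r.symm (hall u)) (hall v))
  have hac : a ≠ c := fun e => hc (by rw [e])
  have hbc : b ≠ c := fun e => hc (e ▸ hr)
  obtain ⟨d, -, hd⟩ := Finset.exists_mem_notMem_of_card_lt_card
    (show ({a, b, c} : Finset α).card < (Finset.univ : Finset α).card from
      lt_of_le_of_lt Finset.card_le_three (by rw [Finset.card_univ]; omega))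
  simp only [Finset.mem_insert, Finset.mem_singleton, not_or] at hd
  have hg : H61.cyc b c d ∈ alternatingGroup α := sign_cyc hbc (Ne.symm hd.2.2)
  have := (h hg a b).mpr hr
  rw [H61.cyc_apply_other hab hac (Ne.symm hd.1), H61.cyc_apply_fst hbc (Ne.symm hd.2.1)] at this
  exact hc this

end Cfsg.Agent.H66.ThreeMinimal
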